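import Cfsg.Agent.Mrg.Omega.HOne.EigOf
import Cfsg.Agent.Mrg.Omega.HOneQ.ECenC
import Cfsg.Agent.Mrg.Omega.Lie.CubSQ
import Cfsg.Agent.Mrg.Omega.Lie.ModQS

-- merged: Cfsg.Agent.Mrg.Omega.HOne.SimpleOf
section

section


/-!
# `W i / Z(W i)` is an irreducible `E T`-module (II.0h1, split, `q ≥ 4`; bb #14148 section 4)

`Fq.dat`: instance of `SimpleMod.Dat` for every normal `E ≥ A` with `E = ⟨A^E⟩`; `Fq.fix_E`, `Fq.span_E`, `Fq.irred`.
`exists_fq'`: the frame exists.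
-/

set_option autoImplicit false
set_option linter.unusedSectionVars false

namespace Cfsg.Agent.Omega.HOne.ModZ

open Subgroup Cfsg.Agent.Omega.BTwo Cfsg.Agent.Omega.Lie Cfsg.Agent.Omega.Lie.Quot

universe u v w

variable {G : Type u} [Group G] {ι : Type w} {V : Subgroup G} {R : ι → Subgroup G} {i j : ι}
  {F : Type v} [Field F] {v : F → F → G} {w1 w2 t : F → G}

/-- **existence of the frame** -/
theorem exists_frame [Finite G] [Finite F] (hF : ∃ a : F, a ≠ 0 ∧ a ≠ 1) (b : BT V R) (c : Coord V R i j v w1 w2)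
    (τ : TorD V R i j v t) :
    ∃ (M : Type u) (_ : AddCommGroup M) (_ : DistribMulAction (HQ (R i)) M) (p : G → M) (_ : Module F M)
      (f : M →ₗ[F] M →ₗ[F] F) (e : F →ₗ[F] M) (ω : M →ₗ[F] F) (σ : HQ (R i) →* RingAut F) (κ : HQ (R i) → F),
      Fq V R i v M p f e ω σ κ := by
  obtain ⟨M, _, _, p, m⟩ := exists_MZ b i
  obtain ⟨_, f, e, ω, σ, κ, h⟩ := m.exists_fq hF b c τ
  exact ⟨M, _, _, p, _, f, e, ω, σ, κ, h⟩

namespace Fq

variable {M : Type u} [AddCommGroup M] [Module F M] [DistribMulAction (HQ (R i)) M] {p : G → M}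
  {f : M →ₗ[F] M →ₗ[F] F} {e : F →ₗ[F] M} {ω : M →ₗ[F] F} {σ : HQ (R i) →* RingAut F} {κ : HQ (R i) → F}
  {N : Type u} [AddCommGroup N] [Module F N] {P1 P2 : G → N} [Finite F] [CharP F 2]

/-- `A` is faithful on `W i / Z(W i)` -/
theorem al_faithful [Finite G] (q : Fq V R i v M p f e ω σ κ) (b : BTS V R) (c : Coord V R i j v w1 w2)
    (τ : TorD V R i j v t) (y : YPair V R i j w1 w2 N P1 P2) (hF : ∃ a : F, a ≠ 0 ∧ a ≠ 1)
    (hodd : Odd ((normalizer (V : Set G)).relIndex (normalizer (R i : Set G)))) {k : N}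
    (h : ∀ x : M, al b.toBT y k • x = x) : k = 0 := by
  obtain ⟨u, hu, rfl⟩ := exists_u y k
  have hN := b.toBT.cen_le_N i (UU_le_cen j hu)
  have h1 : u ∈ DD V R := by
    refine LemNS.faithful b hF c τ hodd hu fun w hw => ?_
    have h2 := h (p w)
    rw [← pr_U b.toBT y hu hN, ← sub_eq_zero, q.toMZ.smul_sub hN hw, q.p_ker _ (MZ.comm_mem_W hN hw)] at h2
    have h3 := inv_mem h2
    have e1 : (u * w * u⁻¹ * w⁻¹)⁻¹ = w * u * w⁻¹ * u⁻¹ := by group
    rw [e1] at h3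
    exact h3
  exact ((y.mem_D _ (UU_le_YY j hu)).1 h1).2

/-- the element of `A` with coordinate in `N₀` -/
theorem exists_AZ (b : BT V R) (c : Coord V R i j v w1 w2) (y : YPair V R i j w1 w2 N P1 P2) {z : G}
    (hz : z ∈ ZZ V R j) (hzD : z ∉ DD V R) : ∃ k ∈ N0 b c y, k ≠ 0 := by
  refine ⟨P2 z, mem_N0'.2 ⟨z, hz, rfl⟩, fun h => hzD ?_⟩
  have h1 := zU_le j hz
  exact (y.mem_D _ (UU_le_YY j h1)).2 ⟨(y.mem_U2 _ (UU_le_YY j h1)).1 h1, h⟩

/-- **the hypotheses of `SimpleMod`** -/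
theorem dat [Finite G] (q : Fq V R i v M p f e ω σ κ) (b : BTS V R) (c : Coord V R i j v w1 w2)
    (τ : TorD V R i j v t) (y : YPair V R i j w1 w2 N P1 P2) (hF : ∃ a : F, a ≠ 0 ∧ a ≠ 1)
    (hodd : Odd ((normalizer (V : Set G)).relIndex (normalizer (R i : Set G))))
    (hZ : ∃ z ∈ ZZ V R j, z ∉ DD V R) {E : Subgroup (HQ (R i))} [hE : E.Normal] (hA : AA V R i j ≤ E)
    (hgen : ∀ K : Subgroup (HQ (R i)), AA V R i j ≤ K → (∀ g ∈ E, ∀ k ∈ K, g * k * g⁻¹ ∈ K) → E ≤ K) :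
    SimpleMod.Dat (AA V R i j) E (TT τ) (LinearMap.range e).toAddSubgroup
      (q.DS b.toBT c τ y hF).toAddSubgroup (LinearMap.ker ω).toAddSubgroup (fun x y => f x y) := by
  obtain ⟨π, Λ, h, -, -⟩ := q.exists_pre b c τ y hF
  have hij : i ≠ j := c.ne
  have hAk : ∀ a ∈ AA V R i j, ∃ k, ∀ x : M, a • x - x = q.AL b.toBT c y k x := by
    intro a ha
    obtain ⟨k, rfl⟩ := (mem_AA b.toBT y).1 ha
    exact ⟨k, fun x => rfl⟩
  have hT : ∀ x ∈ TT τ, ∃ a : Fˣ, ∀ m : M, x • m = q.TL c τ a m := by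
    intro x hx
    obtain ⟨a, ha, rfl⟩ := (mem_TT τ).1 hx
    exact ⟨Units.mk0 a ha, fun m => rfl⟩
  have hT' : ∀ a : Fˣ, ∃ x ∈ TT τ, ∀ m : M, x • m = q.TL c τ a m :=
    fun a => ⟨_, (mem_TT τ).2 ⟨a, a.ne_zero, rfl⟩, fun m => rfl⟩
  obtain ⟨m0, hm0⟩ := h.ω1
  exact
    { normal := fun g hg h' => hE.conj_mem g hg h'
      A_le := hA
      gen := hgen
      sq := fun a ha => A_sq b.toBT hij ha
      eD := by
        rintro _ ⟨γ, rfl⟩
        exact h.eD γ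
      DP := fun x hx => h.Dω x hx
      ene := by
        intro h1
        have h2 : e 1 ∈ (LinearMap.range e).toAddSubgroup := ⟨1, rfl⟩
        rw [h1, AddSubgroup.mem_bot] at h2
        exact one_ne_zero (h.e_inj 1 h2)
      A2 := by
        intro a ha m hm
        obtain ⟨k, hk⟩ := hAk a ha
        rw [hk]
        have h1 := h.Aπ k m
        rw [show ω m = 0 from hm, zero_smul] at h1
        exact (h.πk _).1 h1
      A1 := by
        intro a ha m
        obtain ⟨k, hk⟩ := hAk a ha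
        rw [hk]
        exact h.Aω k m
      A3 := by
        intro a ha m hm
        obtain ⟨k, hk⟩ := hAk a ha
        rw [hk, show q.AL b.toBT c y k m = _ from h.AΛ k ⟨m, hm⟩]
        exact ⟨_, rfl⟩
      A4 := by
        rintro a ha _ ⟨γ, rfl⟩
        obtain ⟨k, hk⟩ := hAk a ha
        rw [← sub_eq_zero, hk, h.Ae]
      surj := by
        intro m hm x hx
        have hm' : ω m ≠ 0 := hm
        have hx' : ω x = 0 := hx
        obtain ⟨n, hn⟩ := (N0 b.toBT c y).mkQ_surjective (π ⟨x, hx'⟩)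
        refine ⟨al b.toBT y ((ω m)⁻¹ • n), al_mem _ _ _, ?_⟩
        have h1 := h.Aπ ((ω m)⁻¹ • n) m
        rw [map_smul, smul_smul, mul_inv_cancel₀ hm', one_smul, hn] at h1
        have h2 : ω (x - q.AL b.toBT c y ((ω m)⁻¹ • n) m) = 0 := by rw [map_sub, hx', h.Aω, sub_zero]
        have h3 : π ⟨x - q.AL b.toBT c y ((ω m)⁻¹ • n) m, h2⟩ = 0 := by
          have e1 : (⟨x - q.AL b.toBT c y ((ω m)⁻¹ • n) m, h2⟩ : LinearMap.ker ω) =
              ⟨x, hx'⟩ - ⟨_, h.Aω ((ω m)⁻¹ • n) m⟩ := rfl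
          rw [e1, map_sub, h1, sub_self]
        exact (h.πk _).1 h3
      ker0 := by
        intro d hd hfix
        have h1 : Λ ⟨d, hd⟩ = 0 := by
          ext k
          have h2 := hfix _ (al_mem b.toBT y k)
          rw [← sub_eq_zero, show al b.toBT y k • d - d = _ from h.AΛ k ⟨d, hd⟩] at h2
          exact h.e_inj _ h2
        obtain ⟨γ, hγ⟩ := h.Λe _ h1
        exact ⟨γ, hγ.symm⟩
      Tinv := by
        rintro x hx _ ⟨γ, rfl⟩
        obtain ⟨a, ha⟩ := hT x hx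
        rw [ha, h.Te, ← LinearMap.map_smul e]
        exact ⟨_, rfl⟩
      Te := by
        intro L hL hLe
        by_cases h0 : L = ⊥
        · exact Or.inl h0
        · right
          apply le_antisymm hLe
          obtain ⟨⟨x, hx⟩, hx1⟩ := AddSubgroup.ne_bot_iff_exists_ne_zero.1 h0
          have hx0 : x ≠ 0 := fun h' => hx1 (Subtype.ext h')
          obtain ⟨γ, rfl⟩ := hLe hx
          have hγ : γ ≠ 0 := fun h' => hx0 (by rw [h', map_zero])
          rintro _ ⟨δ, rfl⟩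
          by_cases hδ : δ = 0
          · rw [hδ, map_zero]; exact zero_mem _
          · obtain ⟨x', hx', hx''⟩ := hT' (Units.mk0 (γ * δ⁻¹) (mul_ne_zero hγ (inv_ne_zero hδ)))
            have h1 := hL x' hx' _ hx
            rw [hx'', h.Te, ← LinearMap.map_smul e, Units.val_mk0, smul_eq_mul] at h1
            have e1 : (γ * δ⁻¹)⁻¹ * γ = δ := by field_simp
            rwa [e1] at h1
      TP := by
        intro L hL
        by_cases hP : L ≤ (LinearMap.ker ω).toAddSubgroup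
        · exact Or.inl hP
        · right
          obtain ⟨x, hx, hxP⟩ := Set.not_subset.1 (fun h' => hP h')
          have hx0 : ω x ≠ 0 := hxP
          rw [eq_top_iff]
          intro m _
          by_cases hm : ω m = 0
          · exact AddSubgroup.mem_sup_right hm
          · obtain ⟨r, hr⟩ : ∃ r : F, r ^ 2 = ω m * (ω x)⁻¹ := by
              have hinj : Function.Injective (fun r : F => r ^ 2) := by
                intro r r' h'
                have h2 : (r - r') ^ 2 = 0 := by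
                  have h3 : r ^ 2 = r' ^ 2 := h'
                  have h4 : (2 : F) = 0 := h.two
                  linear_combination h3 + (r' ^ 2 - r * r') * h4
                exact sub_eq_zero.1 (pow_eq_zero_iff (two_ne_zero)|>.1 h2)
              exact (Finite.surjective_of_injective hinj) _
            have hr0 : r ≠ 0 := by
              rintro rfl
              rw [zero_pow two_ne_zero] at hr
              exact mul_ne_zero hm (inv_ne_zero hx0) hr.symm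
            obtain ⟨x', hx', hx''⟩ := hT' (Units.mk0 r hr0)
            have h1 : x' • x ∈ L := hL x' hx' x hx
            have h2 : m - x' • x ∈ (LinearMap.ker ω).toAddSubgroup := by
              change ω (m - x' • x) = 0
              rw [map_sub, hx'', h.Tω, Units.val_mk0, hr, mul_assoc, inv_mul_cancel₀ hx0, mul_one, sub_self]
            have e1 : m = x' • x + (m - x' • x) := by abel
            rw [e1]
            exact AddSubgroup.add_mem_sup h1 h2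
      fadd := fun x y z => map_add _ _ _
      fadd' := fun x y z => by rw [map_add]; rfl
      fnd := q.nd
      fA := fun a ha x x' => by
        obtain ⟨k, rfl⟩ := (mem_AA b.toBT y).1 ha
        exact q.H0_isom c (q.al_H0 b.toBT c y k) x x'
      fH := fun h' x x' hx => by rw [q.act, hx, map_zero, mul_zero]
      fP := by
        rintro x hx _ ⟨γ, rfl⟩
        rw [h.fe, show ω x = 0 from hx, zero_mul]
      fPP := by
        intro x hx
        refine ⟨f x m0, ?_⟩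
        rw [eq_comm, ← sub_eq_zero]
        apply q.nd
        intro z
        rw [map_sub, LinearMap.sub_apply, h.symm (e _) z, h.fe]
        have h1 : f x (z - ω z • m0) = 0 := hx _ (by
          change ω (z - ω z • m0) = 0
          rw [map_sub, map_smul, hm0, smul_eq_mul, mul_one, sub_self])
        rw [map_sub, map_smul, smul_eq_mul] at h1
        exact h1
      fDD := fun x hx z hz => h.fDD x hx z hz
      span := fun L hL => q.toMZ.gen (fun h' a ha => hL h' a ((q.mem_e c).2 ha))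
      faithful := by
        intro a ha hfix
        obtain ⟨k, rfl⟩ := (mem_AA b.toBT y).1 ha
        rw [q.al_faithful b c τ y hF hodd hfix, al_zero]
      AZ := by
        obtain ⟨z, hz, hzD⟩ := hZ
        obtain ⟨k, hk, hk0⟩ := exists_AZ b.toBT c y hz hzD
        refine ⟨al b.toBT y k, al_mem _ _ _, ?_, ?_⟩
        · intro h1
          apply hk0
          apply q.al_faithful b c τ y hF hodd
          intro x
          rw [h1, one_smul]
        · intro d hd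
          rw [← sub_eq_zero, show al b.toBT y k • d - d = _ from h.AΛ k ⟨d, hd⟩, h.Λ0 _ k hk, map_zero] }

/-- `|T|` is odd -/
theorem odd_TT (b : BT V R) (τ : TorD V R i j v t) : Odd (Nat.card (TT τ)) := by
  have h1 := card_T b τ
  have h3 : Fintype F := Fintype.ofFinite F
  have h2 : Even (Nat.card F) := by
    rw [Nat.card_eq_fintype_card]
    exact Nat.even_iff.2 (FiniteField.even_card_of_char_two (ringChar.eq F 2))
  rcases Nat.even_or_odd (Nat.card (TT τ)) with h | h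
  · exfalso
    rw [← h1] at h2
    exact (Nat.not_even_iff_odd.2 h.add_one) h2
  · exact h

section cor

variable [Finite G] (q : Fq V R i v M p f e ω σ κ) (b : BTS V R) (c : Coord V R i j v w1 w2)
    (τ : TorD V R i j v t) (y : YPair V R i j w1 w2 N P1 P2) (hF : ∃ a : F, a ≠ 0 ∧ a ≠ 1)
    (hodd : Odd ((normalizer (V : Set G)).relIndex (normalizer (R i : Set G))))
    (hZ : ∃ z ∈ ZZ V R j, z ∉ DD V R) {E : Subgroup (HQ (R i))} [hE : E.Normal] (hA : AA V R i j ≤ E)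
    (hgen : ∀ K : Subgroup (HQ (R i)), AA V R i j ≤ K → (∀ g ∈ E, ∀ k ∈ K, g * k * g⁻¹ ∈ K) → E ≤ K)
include q b c τ y hF hodd hZ hA hgen

/-- `C_M(E) = 0` -/
theorem fix_E {m : M} (hm : ∀ g ∈ E, g • m = m) : m = 0 :=
  (q.dat b c τ y hF hodd hZ hA hgen).fix_E hm

/-- `e ≤ L` for every `E T`-invariant subgroup `L ≠ 0` -/
theorem e_le {L : AddSubgroup M} (hLE : ∀ g ∈ E, ∀ x ∈ L, g • x ∈ L) (hLT : ∀ g ∈ TT τ, ∀ x ∈ L, g • x ∈ L)
    (hL : L ≠ ⊥) (γ : F) : e γ ∈ L :=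
  (q.dat b c τ y hF hodd hZ hA hgen).e_le hLE hLT hL ⟨γ, rfl⟩

/-- **`M = ⟨e^E⟩`** -/
theorem span_E {L : AddSubgroup M} (h : ∀ g ∈ E, ∀ γ, g • e γ ∈ L) : L = ⊤ := by
  have := q.toMZ.finite_M
  have h1 := (q.dat b c τ y hF hodd hZ hA hgen).M1_eq_top (odd_TT b.toBT τ) (q.toMZ.two b.toBT)
  rw [eq_top_iff, ← h1]
  refine (AddSubgroup.closure_le _).2 ?_
  rintro _ ⟨g, hg, _, ⟨γ, rfl⟩, rfl⟩
  exact h g hg γ

/-- **`M` is an irreducible `E T`-module** -/
theorem irred {L : AddSubgroup M} (hLE : ∀ g ∈ E, ∀ x ∈ L, g • x ∈ L) (hLT : ∀ g ∈ TT τ, ∀ x ∈ L, g • x ∈ L)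
    (hL : L ≠ ⊥) : L = ⊤ := by
  have := q.toMZ.finite_M
  exact (q.dat b c τ y hF hodd hZ hA hgen).eq_top (odd_TT b.toBT τ) (q.toMZ.two b.toBT) hLE hLT hL

end cor

/-- **`Z(W j) D < U j`**: `N₀ ≠ N` -/
theorem N0_ne_top [Finite G] (q : Fq V R i v M p f e ω σ κ) (b : BTS V R) (c : Coord V R i j v w1 w2)
    (τ : TorD V R i j v t) (y : YPair V R i j w1 w2 N P1 P2) (hF : ∃ a : F, a ≠ 0 ∧ a ≠ 1)
    (hodd : Odd ((normalizer (V : Set G)).relIndex (normalizer (R i : Set G))))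
    (hZ : ∃ z ∈ ZZ V R j, z ∉ DD V R) : N0 b.toBT c y ≠ ⊤ := by
  intro htop
  obtain ⟨π, Λ, h, -, -⟩ := q.exists_pre b c τ y hF
  obtain ⟨m0, hm0⟩ := h.ω1
  -- `P = e`
  have hP : ∀ x, ω x = 0 → ∃ γ, x = e γ := by
    intro x hx
    have h1 : π ⟨x, hx⟩ = 0 := by
      obtain ⟨n, hn⟩ := (N0 b.toBT c y).mkQ_surjective (π ⟨x, hx⟩)
      rw [← hn, Submodule.mkQ_apply, Submodule.Quotient.mk_eq_zero, htop]
      trivial
    have h2 := (h.πk _).1 h1
    refine h.Λe ⟨x, h2⟩ ?_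
    ext k
    exact h.Λ0 _ k (by rw [htop]; trivial)
  choose β hβ using fun k => hP _ (h.Aω k m0)
  have hT : ∀ a : Fˣ, ∃ γ, q.TL c τ a m0 = (a : F) ^ 2 • m0 + e γ := by
    intro a
    obtain ⟨γ, hγ⟩ := hP (q.TL c τ a m0 - (a : F) ^ 2 • m0) (by
      rw [map_sub, map_smul, h.Tω, hm0, smul_eq_mul, sub_self])
    exact ⟨γ, by rw [← hγ]; abel⟩
  have hβT : ∀ (a : Fˣ) k, β ((a : F) • k) = (a : F) ^ 3 * β k := by
    intro a k
    obtain ⟨γ, hγ⟩ := hT a⁻¹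
    have h1 := h.AT a⁻¹ k m0
    rw [hβ k, h.Te, hγ, map_add, map_smul, h.Ae, add_zero, ← LinearMap.map_smul e] at h1
    simp only [Units.val_inv_eq_inv_val, inv_inv] at h1
    rw [hβ, ← LinearMap.map_smul e] at h1
    have h2 := h.e_inj _ (show e ((a : F) • β k - ((a : F)⁻¹ ^ 2) • β ((a : F) • k)) = 0 by
      rw [map_sub, h1, sub_self])
    rw [smul_eq_mul, smul_eq_mul, sub_eq_zero] at h2
    have h3 := a.ne_zero
    field_simp at h2
    linear_combination -h2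
  have hβa : ∀ k k', β (k + k') = β k + β k' := by
    intro k k'
    have h1 := h.Aadd k k' m0
    rw [hβ, hβ, hβ, h.Ae, add_zero, ← map_add] at h1
    have h2 := h.e_inj _ (show e (β (k + k') - (β k + β k')) = 0 by rw [map_sub, h1, sub_self])
    exact sub_eq_zero.1 h2
  obtain ⟨a, ha, ha1⟩ := hF
  have hβ0 : ∀ k, β k = 0 := by
    intro k
    have ha2 : (1 : F) + a ≠ 0 := by
      intro h'
      apply ha1
      linear_combination h' - h.two
    have h1 := hβa k (a • k)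
    have h2 := hβT (Units.mk0 a ha) k
    have h3 := hβT (Units.mk0 (1 + a) ha2) k
    rw [Units.val_mk0] at h2 h3
    rw [add_smul, one_smul, h1, h2] at h3
    have h4 : a * (1 + a) * β k = 0 := by
      linear_combination (-1 : F) * h3 - (a + a ^ 2) * β k * h.two
    rcases mul_eq_zero.1 h4 with h5 | h5
    · exact absurd h5 (mul_ne_zero ha ha2)
    · exact h5
  obtain ⟨z, hz, hzD⟩ := hZ
  obtain ⟨k, -, hk0⟩ := exists_AZ b.toBT c y hz hzD
  apply hk0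
  apply q.al_faithful b c τ y ⟨a, ha, ha1⟩ hodd
  intro x
  obtain ⟨γ, hγ⟩ := hP (x - ω x • m0) (by rw [map_sub, map_smul, hm0, smul_eq_mul, mul_one, sub_self])
  have e1 : x = ω x • m0 + e γ := by rw [← hγ]; abel
  rw [← sub_eq_zero]
  change q.AL b.toBT c y k x = 0
  rw [e1, map_add, map_smul, h.Ae, hβ, hβ0, map_zero, smul_zero, add_zero]

end Fq

end Cfsg.Agent.Omega.HOne.ModZ

end

section


/-!
# LEMMA NA-h1: `N_H(A)` fixes the line `e'` (II.0h1 split, `q ≥ 4`; OMEGA #17641 (2)); helper866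

`M' = W i / Z(W i)` with its `F`-structure (`Fq`), `A` the image of `U j`, `e'` the line `V`.

* `Pre.not_quad` : `[M', A, A] ≠ 0` if `A` is faithful and `N₀ ≠ 0`;
* `Pre.exists_line` : `e'` is `[M', A, A]` or `[M', A, A, A]`;
* `normA` : `g ∈ H` with `A^g ≤ A` fixes `e'`.
-/

set_option autoImplicit false
set_option linter.unusedSectionVars false

namespace Cfsg.Agent.Omega.HOneQ.NormA

open Cfsg.Agent.Omega.HOne.EigAbs

section Abs

variable {F : Type*} [Field F] {M : Type*} [AddCommGroup M] [Module F M] {N : Type*} [AddCommGroup N] [Module F N]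
  {f : M →ₗ[F] M →ₗ[F] F} {e : F →ₗ[F] M} {ω : M →ₗ[F] F} {T : Fˣ → M →ₗ[F] M} {D : Submodule F M}
  {N0 : Submodule F N} {π : LinearMap.ker ω →ₗ[F] N ⧸ N0} {Λ : D →ₗ[F] N →ₗ[F] F} {A : N → M →ₗ[F] M}

/-- `A k D ⊆ e` -/
theorem A_D (h : Pre f e ω T D N0 π Λ A) (k : N) {x : M} (hx : x ∈ D) : A k x = e (Λ ⟨x, hx⟩ k) := h.AΛ k ⟨x, hx⟩

/-- `A k P ⊆ D` -/
theorem A_P (h : Pre f e ω T D N0 π Λ A) (k : N) {x : M} (hx : ω x = 0) : A k x ∈ D := by
  have h1 := h.Aπ k x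
  rw [hx, zero_smul] at h1
  exact (h.πk _).1 h1

/-- `D ∩ C(A) = e` -/
theorem mem_e_of (h : Pre f e ω T D N0 π Λ A) {x : M} (hx : x ∈ D) (hA : ∀ k, A k x = 0) : ∃ γ, x = e γ := by
  refine h.Λe ⟨x, hx⟩ ?_
  ext k
  have h1 := hA k
  rw [A_D h k hx] at h1
  exact h.e_inj _ h1

/-- **`[M', A, A] ≠ 0`** -/
theorem not_quad (h : Pre f e ω T D N0 π Λ A) (hf : ∀ k, (∀ x, A k x = 0) → k = 0) (hN : ∃ k ∈ N0, k ≠ 0) :
    ∃ k k' x, A k (A k' x) ≠ 0 := by
  by_contra hq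
  push Not at hq
  obtain ⟨M0, n, s, sh, E⟩ := h.exists_eig
  obtain ⟨x0, hx0⟩ := h.ω1
  obtain ⟨a, ha⟩ := h.four
  -- `A k` kills `P` for `k ∈ N₀`
  have hP : ∀ k ∈ N0, ∀ y, ω y = 0 → A k y = 0 := by
    intro k hk y hy
    have hnk : n k = 0 := (E.n_ker k).2 hk
    have hd : ∀ d ∈ M0, A k d = 0 := fun d hd => by rw [E.A_0 k d hd, hnk, map_zero, map_zero]
    have hn : ∀ g, A k (n g) = 0 := by
      intro g
      have h1 := E.A_top g x0
      rw [hx0, one_smul] at h1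
      obtain ⟨c, d, hd', h2⟩ := (E.mem_D _).1 h1
      have h3 : n g = A g x0 - (e c + d) := by rw [← h2]; abel
      rw [h3, map_sub, map_add, hq, E.A_e, hd d hd', add_zero, sub_zero]
    obtain ⟨c, d, hd', g, rfl⟩ := (E.mem_P y).1 hy
    rw [map_add, map_add, E.A_e, hd d hd', hn, add_zero, add_zero]
  -- `A k x₀ ∈ e`
  have hx : ∀ k ∈ N0, ∃ β, A k x0 = e β := by
    intro k hk
    have hnk : n k = 0 := (E.n_ker k).2 hk
    have h1 := E.A_top k x0
    rw [hnk, smul_zero, sub_zero] at h1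
    obtain ⟨c, d, hd, h2⟩ := (E.mem_D _).1 h1
    refine ⟨c, ?_⟩
    have h3 : d = 0 := by
      refine E.inj d hd fun g => ?_
      have h4 := h.Af k x0 (n g)
      rw [hP k hk _ (E.ω_1 g), add_zero, map_add, LinearMap.add_apply, add_eq_left, h2, map_add,
        LinearMap.add_apply, h.symm (e c), h.fe, E.ω_1, zero_mul, zero_add] at h4
      exact h4
    rw [h2, h3, add_zero]
  choose! β hβ using hx
  have hadd : ∀ k ∈ N0, ∀ k' ∈ N0, β (k + k') = β k + β k' := by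
    intro k hk k' hk'
    have h1 := h.Aadd k k' x0
    rw [hq, add_zero, hβ _ (N0.add_mem hk hk'), hβ k hk, hβ k' hk'] at h1
    have h2 := h.e_inj (β (k + k') - (β k + β k')) (by rw [map_sub, map_add, h1, sub_self])
    exact sub_eq_zero.1 h2
  have hT : ∀ (a : Fˣ), ∀ k ∈ N0, β ((a : F) • k) = (a : F) ^ 3 * β k := by
    intro a k hk
    have h1 := h.AT a⁻¹ k x0
    have h2 : ω (T a⁻¹ x0 - ((a⁻¹ : Fˣ) : F) ^ 2 • x0) = 0 := by
      rw [map_sub, map_smul, h.Tω, hx0, smul_eq_mul, sub_self]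
    have h3 : T a⁻¹ x0 = ((a⁻¹ : Fˣ) : F) ^ 2 • x0 + (T a⁻¹ x0 - ((a⁻¹ : Fˣ) : F) ^ 2 • x0) := by abel
    have hak : (a : F) • k ∈ N0 := N0.smul_mem _ hk
    rw [hβ k hk, h.Te] at h1
    simp only [Units.val_inv_eq_inv_val, inv_inv] at h1 h3 h2
    rw [h3, map_add, map_smul, hP _ hak _ h2, add_zero, hβ _ hak, ← LinearMap.map_smul e,
      ← LinearMap.map_smul e] at h1
    have h4 := h.e_inj (((a : F) • β k) - ((a : F)⁻¹ ^ 2 • β ((a : F) • k))) (by rw [map_sub, h1, sub_self])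
    rw [smul_eq_mul, smul_eq_mul, sub_eq_zero] at h4
    have h5 := a.ne_zero
    field_simp at h4
    linear_combination -h4
  obtain ⟨k, hk, hk0⟩ := hN
  apply hk0
  apply hf
  have hβ0 : β k = 0 := by
    have ha2 : (1 : F) + a ≠ 0 := by
      intro h'
      apply ha
      linear_combination h' - h.two
    have h1 := hadd k hk ((a : F) • k) (N0.smul_mem _ hk)
    have h2 := hT a k hk
    have h3 := hT (Units.mk0 (1 + (a : F)) ha2) k hk
    rw [Units.val_mk0] at h3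
    rw [add_smul, one_smul, h1, h2] at h3
    have h4 : (a : F) * (1 + a) * β k = 0 := by
      linear_combination (-1 : F) * h3 - ((a : F) + (a : F) ^ 2) * β k * h.two
    rcases mul_eq_zero.1 h4 with h5 | h5
    · exact absurd h5 (mul_ne_zero a.ne_zero ha2)
    · exact h5
  intro x
  have e1 : x = ω x • x0 + (x - ω x • x0) := by abel
  have h2 : ω (x - ω x • x0) = 0 := by rw [map_sub, map_smul, hx0, smul_eq_mul, mul_one, sub_self]
  rw [e1, map_add, map_smul, hP k hk _ h2, hβ k hk, hβ0, map_zero, smul_zero, add_zero]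

/-- **`e' = [M', A, A]` or `e' = [M', A, A, A]`** -/
theorem exists_line (h : Pre f e ω T D N0 π Λ A) (hf : ∀ k, (∀ x, A k x = 0) → k = 0) (hN : ∃ k ∈ N0, k ≠ 0) :
    ((∃ k k' k'' x, A k (A k' (A k'' x)) = e 1) ∧ ∀ k k' k'' x, ∃ γ, A k (A k' (A k'' x)) = e γ) ∨
      ((∃ k k' x, A k (A k' x) = e 1) ∧ ∀ k k' x, ∃ γ, A k (A k' x) = e γ) := by
  have hsc : ∀ {γ : F} (_ : γ ≠ 0), e 1 = γ⁻¹ • e γ := fun {γ} hγ => by
    rw [← LinearMap.map_smul e, smul_eq_mul, inv_mul_cancel₀ hγ]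
  by_cases h3 : ∃ k k' k'' x, A k (A k' (A k'' x)) ≠ 0
  · left
    have key : ∀ k k' k'' x, ∃ γ, A k (A k' (A k'' x)) = e γ := fun k k' k'' x =>
      ⟨_, A_D h k (A_P h k' (h.Aω k'' x))⟩
    refine ⟨?_, key⟩
    obtain ⟨k, k', k'', x, hx⟩ := h3
    obtain ⟨γ, hγ⟩ := key k k' k'' x
    have hγ0 : γ ≠ 0 := by
      rintro rfl
      exact hx (by rw [hγ, map_zero])
    exact ⟨k, k', k'', γ⁻¹ • x, by rw [map_smul, map_smul, map_smul, hγ, ← hsc hγ0]⟩
  · right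
    push Not at h3
    have key : ∀ k k' x, ∃ γ, A k (A k' x) = e γ := fun k k' x =>
      mem_e_of h (A_P h k (h.Aω k' x)) fun k'' => h3 k'' k k' x
    refine ⟨?_, key⟩
    obtain ⟨k, k', x, hx⟩ := not_quad h hf hN
    obtain ⟨γ, hγ⟩ := key k k' x
    have hγ0 : γ ≠ 0 := by
      rintro rfl
      exact hx (by rw [hγ, map_zero])
    exact ⟨k, k', γ⁻¹ • x, by rw [map_smul, map_smul, hγ, ← hsc hγ0]⟩

/-- an additive bijection `g` with `g a g⁻¹ ∈ A` for all `a ∈ A` fixes `e'` -/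
theorem line_fix (h : Pre f e ω T D N0 π Λ A) (hf : ∀ k, (∀ x, A k x = 0) → k = 0) (hN : ∃ k ∈ N0, k ≠ 0)
    {g : M → M} (hg : ∀ k, ∃ k', ∀ x, g (A k x) = A k' (g x)) : ∃ γ, g (e 1) = e γ := by
  rcases exists_line h hf hN with ⟨⟨k, k', k'', x, hx⟩, h1⟩ | ⟨⟨k, k', x, hx⟩, h1⟩
  · obtain ⟨l, hl⟩ := hg k
    obtain ⟨l', hl'⟩ := hg k'
    obtain ⟨l'', hl''⟩ := hg k''
    obtain ⟨γ, hγ⟩ := h1 l l' l'' (g x)
    exact ⟨γ, by rw [← hx, hl, hl', hl'', hγ]⟩
  · obtain ⟨l, hl⟩ := hg k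
    obtain ⟨l', hl'⟩ := hg k'
    obtain ⟨γ, hγ⟩ := h1 l l' (g x)
    exact ⟨γ, by rw [← hx, hl, hl', hγ]⟩

end Abs

section Real

open Subgroup Cfsg.Agent.Omega.BTwo Cfsg.Agent.Omega.Lie Cfsg.Agent.Omega.Lie.Quot
open Cfsg.Agent.Omega.HOne.ModZ

universe u v w

variable {G : Type u} [Group G] [Finite G] {ι : Type w} {V : Subgroup G} {R : ι → Subgroup G} {i j : ι}
  {F : Type v} [Field F] [Finite F] [CharP F 2] {v : F → F → G} {w1 w2 t : F → G}
  {M : Type u} [AddCommGroup M] [Module F M] [DistribMulAction (HQ (R i)) M] {p : G → M}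
  {f : M →ₗ[F] M →ₗ[F] F} {e : F →ₗ[F] M} {ω : M →ₗ[F] F} {σ : HQ (R i) →* RingAut F} {κ : HQ (R i) → F}
  {N : Type u} [AddCommGroup N] [Module F N] {P1 P2 : G → N}

/-- **LEMMA NA-h1.** -/
theorem normA (q : Fq V R i v M p f e ω σ κ) (b : BTS V R) (c : Coord V R i j v w1 w2) (τ : TorD V R i j v t)
    (y : YPair V R i j w1 w2 N P1 P2) (hF : ∃ a : F, a ≠ 0 ∧ a ≠ 1)
    (hodd : Odd ((normalizer (V : Set G)).relIndex (normalizer (R i : Set G))))
    (hz : ∃ z ∈ ZZ V R j, z ∉ DD V R) {g : HQ (R i)} (hg : ∀ a ∈ AA V R i j, g * a * g⁻¹ ∈ AA V R i j) :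
    ∃ γ, g • e 1 = e γ := by
  obtain ⟨π, Λ, h, -, -⟩ := q.exists_pre b c τ y hF
  obtain ⟨z, hz, hzD⟩ := hz
  refine line_fix h (fun k hk => q.al_faithful b c τ y hF hodd fun x => sub_eq_zero.1 (hk x))
    (Fq.exists_AZ b.toBT c y hz hzD) (g := fun x => g • x) fun k => ?_
  obtain ⟨k', hk'⟩ := (mem_AA b.toBT y).1 (hg _ (al_mem b.toBT y k))
  refine ⟨k', fun x => ?_⟩
  show g • (al b.toBT y k • x - x) = al b.toBT y k' • (g • x) - g • x
  rw [hk', smul_sub, smul_smul, smul_smul, inv_mul_cancel_right]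

end Real

end Cfsg.Agent.Omega.HOneQ.NormA

end

end

-- merged: Cfsg.Agent.Mrg.Omega.HOneQ.FrRad
section

section


/-!
# II.0h1, SPLIT, all `q ≥ 4` (bb #15121 (d)) over `BTS`

The radical `rad = Z(W i)/R i` with the data of `CRad.Dat`, for `E = ⟨A^H⟩`, `S ∩ E`, `T`, `N = T H_E`.

* `SE_odd`: `S ∩ E` is a Sylow 2-subgroup of `E`;
* `norm_A`, `norm_SE`: `H_E` normalises `A` and `S ∩ E`;
* `AT_rad`: `[rad, A] ≤ C(T)`; `fix_T_rad`: `C_rad(A) ≤ C_rad(T)`.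
-/

set_option autoImplicit false
set_option linter.unusedSectionVars false

namespace Cfsg.Agent.Omega.HOneQ.FrRad

open Subgroup Cfsg Cfsg.Agent.Omega.Lie Cfsg.Agent.Omega.Lie.Quot Cfsg.Agent.Omega.HOneQ.ECen
open Cfsg.Agent.Omega.BTwo hiding ZZ
open Cfsg.Agent.Omega.Lie.Layer (OddC InnC InnA Cps)

universe u v w

variable {G : Type u} [Group G] {ι : Type w} {V : Subgroup G} {R : ι → Subgroup G} {i j : ι}
  {F : Type v} [Field F] {vv : F → F → G} {w1 w2 t : F → G}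

/-! ### `S`, `T`, `H_E` -/

section SE

variable {τ : TorD V R i j vv t} {S : Subgroup (HQ (R i))}

/-- `S ∩ E` is a Sylow 2-subgroup of `E` -/
theorem SE_odd [Finite G] (I : SylI τ S) {E : Subgroup (HQ (R i))} (hEn : E.Normal) (hE0 : E ≤ H0 R i) :
    Odd ((S ⊓ E).relIndex E) := by
  have hf : Fact (Nat.Prime 2) := ⟨Nat.prime_two⟩
  have hP2 : IsPGroup 2 ((S ⊓ E).subgroupOf E) :=
    (I.S2.to_le (inf_le_left : S ⊓ E ≤ S)).of_injective
      (subgroupOfEquivOfLe (inf_le_right : S ⊓ E ≤ E)).toMonoidHom (MulEquiv.injective _)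
  let P : Sylow 2 E :=
    { toSubgroup := (S ⊓ E).subgroupOf E
      isPGroup' := hP2
      is_maximal' := by
        intro Q hQ hle
        refine le_antisymm ?_ hle
        have h1 : S ⊓ E ≤ Q.map E.subtype := by
          intro x hx
          exact ⟨⟨x, hx.2⟩, hle (mem_subgroupOf.2 hx), rfl⟩
        have h2 : Q.map E.subtype ≤ S := I.syl E hEn.isSubnormal hE0 _ (map_subtype_le Q) (hQ.map _) h1
        intro x hx
        exact mem_subgroupOf.2 ⟨h2 ⟨x, hx, rfl⟩, x.2⟩ }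
  have h1 : ¬ 2 ∣ P.index := P.not_dvd_index
  rw [← Nat.not_even_iff_odd, even_iff_two_dvd]
  exact h1

/-- `S` normalises `A` -/
theorem S_norm_A (b : BT V R) (I : SylI τ S) {s a : HQ (R i)} (hs : s ∈ S) (ha : a ∈ AA V R i j) :
    s * a * s⁻¹ ∈ AA V R i j := by
  obtain ⟨g, hg, hgV, rfl⟩ := I.rep s hs
  obtain ⟨u, hu, rfl⟩ := (mem_AA b).1 ha
  exact (mem_AA b).2 ⟨_, conj_mem_of_normalizer (b.cen_le_NU j hgV) hu, rfl⟩

/-- `T` normalises `S` -/
theorem T_norm_S (I : SylI τ S) {x s : HQ (R i)} (hx : x ∈ TT τ) (hs : s ∈ S) : x * s * x⁻¹ ∈ S := by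
  have h1 := mul_mem hs (I.AS (I.ST x hx s hs))
  rwa [mul_inv_cancel_left] at h1

/-- `[S, T] ≤ A` -/
theorem ST_mem (I : SylI τ S) {x s : HQ (R i)} (hx : x ∈ TT τ) (hs : s ∈ S) : s * x * s⁻¹ * x⁻¹ ∈ AA V R i j := by
  have h1 := I.ST x hx _ (inv_mem hs)
  rwa [show s⁻¹⁻¹ * (x * s⁻¹ * x⁻¹) = s * x * s⁻¹ * x⁻¹ by group] at h1

/-- `A = [A, x]` for some `x ∈ T` -/
theorem exists_A_comm (b : BT V R) (hF : ∃ a : F, a ≠ 0 ∧ a ≠ 1) (τ : TorD V R i j vv t) :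
    ∃ x ∈ TT τ, ∀ a ∈ AA V R i j, ∃ a' ∈ AA V R i j, a = x * a' * x⁻¹ * a'⁻¹ := by
  obtain ⟨α, hα, hα1⟩ := hF
  refine ⟨_, (mem_TT τ).2 ⟨α, hα, rfl⟩, fun a ha => ?_⟩
  obtain ⟨u, hu, rfl⟩ := (mem_AA b).1 ha
  obtain ⟨u', hu', h1⟩ := τ.exists_comm b hα hα1 hu
  have huN := U_le_N b i j hu
  have huN' := U_le_N b i j hu'
  refine ⟨_, (mem_AA b).2 ⟨u', hu', rfl⟩, ?_⟩
  have hN := mul_mem (mul_mem (mul_mem (τ.normR hα) huN') (inv_mem (τ.normR hα))) (inv_mem huN')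
  have e : pr (R i) ⟨t α, τ.normR hα⟩ * pr (R i) ⟨u', huN'⟩ * (pr (R i) ⟨t α, τ.normR hα⟩)⁻¹ *
      (pr (R i) ⟨u', huN'⟩)⁻¹ = pr (R i) ⟨t α * u' * (t α)⁻¹ * u'⁻¹, hN⟩ := rfl
  rw [e, ← mul_inv_eq_one, ← map_inv, ← map_mul]
  refine (pr_eq_one (mul_mem huN (inv_mem hN))).2 ?_
  exact b.W_le_Q i (D_le_W V R i h1)

/-- an element which normalises `S ∩ E`, and `T` modulo `A`, normalises `A` -/
theorem norm_A_of (b : BT V R) (hF : ∃ a : F, a ≠ 0 ∧ a ≠ 1) (I : SylI τ S) {E : Subgroup (HQ (R i))}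
    (hAE : AA V R i j ≤ E) {n : HQ (R i)} (hn : ∀ s ∈ S ⊓ E, n * s * n⁻¹ ∈ S ⊓ E)
    (hnT : ∀ x ∈ TT τ, n * x * n⁻¹ * x⁻¹ ∈ AA V R i j) {a : HQ (R i)} (ha : a ∈ AA V R i j) :
    n * a * n⁻¹ ∈ AA V R i j := by
  obtain ⟨x, hx, h⟩ := exists_A_comm b hF τ
  obtain ⟨a', ha', e⟩ := h a ha
  have hb := hnT x hx
  set c := n * x * n⁻¹ * x⁻¹ with hc
  have hs := (hn a' ⟨I.AS ha', hAE ha'⟩).1
  set s := n * a' * n⁻¹ with hs'
  have h1 := I.ST x hx s hs
  set a'' := s⁻¹ * (x * s * x⁻¹) with ha''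
  have e1 : n * a * n⁻¹ = c * (s * (a'' * c⁻¹) * s⁻¹) := by
    have k1 : n * x * n⁻¹ = c * x := by rw [hc]; group
    have k2 : x * s * x⁻¹ = s * a'' := by rw [ha'']; group
    calc n * a * n⁻¹ = (n * x * n⁻¹) * s * (n * x * n⁻¹)⁻¹ * s⁻¹ := by rw [e, hs']; group
      _ = c * (x * s * x⁻¹) * c⁻¹ * s⁻¹ := by rw [k1]; group
      _ = _ := by rw [k2]; group
  rw [e1]
  exact mul_mem hb (S_norm_A b I hs (mul_mem h1 (inv_mem hb)))

end SE

/-! ### the radical -/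

section rad

variable {M B : Type u} [AddCommGroup M] [AddCommGroup B] [DistribMulAction (NR R i) M]
  [DistribMulAction (NR R i) B] [DistribMulAction (HQ (R i)) M] {p : G → M} {r : G → B} {f : M →+ M →+ B}
  (m : ModQ V R i M B p r f)

theorem rad_smul (b : BT V R) (h : HQ (R i)) {v : M} (hv : v ∈ m.rad) : h • v ∈ m.rad := by
  obtain ⟨g, hg, rfl⟩ := exists_pr h
  obtain ⟨z, hz, rfl⟩ := (m.mem_rad b).1 hv
  rw [m.act hg hz.1]
  exact (m.mem_rad b).2 ⟨_, conj_mem_of_normalizer (LemNS.N_le_NZ i hg) hz, rfl⟩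

/-- `H` acts on the radical -/
@[reducible] def radAct (b : BT V R) : DistribMulAction (HQ (R i)) m.rad where
  smul h x := ⟨h • (x : M), rad_smul m b h x.2⟩
  one_smul x := Subtype.ext (one_smul _ (x : M))
  mul_smul g h x := Subtype.ext (mul_smul g h (x : M))
  smul_zero h := Subtype.ext (smul_zero h)
  smul_add h x y := Subtype.ext (smul_add h (x : M) (y : M))

end rad

section main

variable [Finite G] [Finite F] [CharP F 2] (b : BTS V R) (hF : ∃ a : F, a ≠ 0 ∧ a ≠ 1)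
  (c : Coord V R i j vv w1 w2) (τ : TorD V R i j vv t)
  (hodd : Odd ((normalizer (V : Set G)).relIndex (normalizer (R i : Set G))))
  (hUD : ¬ UU V R j ≤ DD V R)
  {S : Subgroup (HQ (R i))} (I : SylI τ S) (hinn : InnC V R i j) (hoddC : OddC V R i j)
  {HE : Subgroup (HQ (R i))} {w : HQ (R i)}
  (k : Fr.KD (EE V R i j) (S ⊓ EE V R i j) HE (AA V R i j) (TT τ) w)

include k in
/-- `H_E` normalises `S ∩ E` -/
theorem norm_SE {n s : HQ (R i)} (hn : n ∈ HE) (hs : s ∈ S ⊓ EE V R i j) : n * s * n⁻¹ ∈ S ⊓ EE V R i j :=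
  conj_mem_of_normalizer (k.cpl.HB hn).2 hs

include k b hF I in
/-- `H_E` normalises `A` -/
theorem norm_A {n a : HQ (R i)} (hn : n ∈ HE) (ha : a ∈ AA V R i j) : n * a * n⁻¹ ∈ AA V R i j :=
  norm_A_of b.toBT hF I AA_le_EE (fun _ hs => norm_SE τ k hn hs) (fun x hx => k.com n hn x hx) ha

include b c in
/-- `[rad, A] ≤ C(T)` -/
theorem AT_rad {M B : Type u} [AddCommGroup M] [AddCommGroup B] [DistribMulAction (NR R i) M]
    [DistribMulAction (NR R i) B] [DistribMulAction (HQ (R i)) M] {p : G → M} {r : G → B} {f : M →+ M →+ B}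
    (m : ModQ V R i M B p r f) {x : M} (hx : x ∈ m.rad) {a s : HQ (R i)} (ha : a ∈ AA V R i j) (hs : s ∈ TT τ) :
    s • (a • x - x) = a • x - x := by
  have e : a • x - x = x + a • x := by
    rw [sub_eq_add_neg, neg_eq_of_add_eq_zero_left (m.two_M b.toBT x), add_comm]
  rw [e]
  exact ModQS.T_D1 m τ hs (ModQS.A_rad m b c.ne ha hx)

include b hF c τ hodd hUD I hinn hoddC k

/-- the data of `CRad` for the radical -/
theorem dat {M B : Type u} [AddCommGroup M] [AddCommGroup B] [DistribMulAction (NR R i) M]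
    [DistribMulAction (NR R i) B] [DistribMulAction (HQ (R i)) M] {p : G → M} {r : G → B} {f : M →+ M →+ B}
    (m : ModQ V R i M B p r f) :
    @CRad.Dat (HQ (R i)) _ (AA V R i j) (S ⊓ EE V R i j) (EE V R i j) (TT τ) (TT τ ⊔ HE) m.rad _
      (radAct m b.toBT) := by
  let _ := radAct m b.toBT
  have hfin : Finite M := m.finite_M
  have hEn : (EE V R i j).Normal := EE_normal
  have hexp : ∀ x : m.rad, x + x = 0 := fun x => Subtype.ext (m.two_M b.toBT (x : M))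
  have hsup : ∀ (P : HQ (R i) → Prop) (h1 : P 1) (hm : ∀ x y, P x → P y → P (x * y))
      (hT : ∀ x ∈ TT τ, P x) (hH : ∀ x ∈ HE, P x), ∀ n ∈ TT τ ⊔ HE, P n := by
    intro P h1 hm hT hH n hn
    rw [sup_eq_closure] at hn
    refine closure_induction (p := fun x _ => P x ∧ P x⁻¹) ?_ ?_ ?_ ?_ hn |>.1
    · rintro x (hx | hx)
      · exact ⟨hT x hx, hT _ (inv_mem hx)⟩
      · exact ⟨hH x hx, hH _ (inv_mem hx)⟩
    · exact ⟨h1, by rw [inv_one]; exact h1⟩
    · rintro x y - - ⟨hx, hx'⟩ ⟨hy, hy'⟩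
      exact ⟨hm _ _ hx hy, by rw [mul_inv_rev]; exact hm _ _ hy' hx'⟩
    · rintro x - ⟨hx, hx'⟩
      exact ⟨hx', by rw [inv_inv]; exact hx⟩
  exact
    { SE := inf_le_right
      gen := fun K hK hn => E_gen b hF c τ hodd hUD I hinn hoddC hK hn
      AE := AA_le_EE
      two := I.S2.to_le inf_le_left
      odd := SE_odd I EE_normal (EE_le_H0 b.toBT)
      TE := fun x _ g hg => hEn.conj_mem g hg x
      TA := fun x hx a ha => TA_mem b.toBT τ hx ha
      SA := fun s hs a ha => S_norm_A b.toBT I hs.1 ha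
      NA := hsup (fun n => ∀ a ∈ AA V R i j, n * a * n⁻¹ ∈ AA V R i j)
        (fun a ha => by rwa [one_mul, inv_one, mul_one])
        (fun x y hx hy a ha => by
          have h1 := hx _ (hy a ha)
          rwa [show x * (y * a * y⁻¹) * x⁻¹ = x * y * a * (x * y)⁻¹ by group] at h1)
        (fun x hx a ha => TA_mem b.toBT τ hx ha)
        (fun x hx a ha => norm_A b hF τ I k hx ha)
      NS := hsup (fun n => ∀ a ∈ S ⊓ EE V R i j, n * a * n⁻¹ ∈ S ⊓ EE V R i j)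
        (fun a ha => by rwa [one_mul, inv_one, mul_one])
        (fun x y hx hy a ha => by
          have h1 := hx _ (hy a ha)
          rwa [show x * (y * a * y⁻¹) * x⁻¹ = x * y * a * (x * y)⁻¹ by group] at h1)
        (fun x hx a ha => ⟨T_norm_S I hx ha.1, hEn.conj_mem a ha.2 x⟩)
        (fun x hx a ha => norm_SE τ k hx ha)
      NE := sup_le le_sup_right ((k.cpl.HB.trans inf_le_left).trans le_sup_left)
      ST := fun s hs x hx => ST_mem I hx hs.1
      Todd := Cfsg.Agent.Omega.HOne.ModZ.Fq.odd_TT b.toBT τ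
      exp := hexp
      AT := fun a ha x s hs => Subtype.ext (AT_rad b c τ m x.2 ha hs)
      CE := by
        rintro ⟨v, hv⟩ h
        obtain ⟨z, hz, rfl⟩ := (m.mem_rad b.toBT).1 hv
        refine Subtype.ext ((m.p_ker z hz.1).2 ?_)
        refine cen_EE b hF c τ hodd hUD I hinn hoddC hz fun g hg => ?_
        obtain ⟨hgN, hgE⟩ := mem_lift.1 hg
        have h1 := congrArg Subtype.val (h _ hgE)
        change pr (R i) ⟨g, hgN⟩ • p z = p z at h1
        rwa [m.act hgN hz.1, m.p_eq_iff (conj_mem_of_normalizer (normalizer_le_WW V (R i) hgN) hz.1) hz.1] at h1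
      CR := k.CR m.rad hexp }

/-- **(d)**: `C_rad(A) ≤ C_rad(T)` -/
theorem fix_T_rad {M B : Type u} [AddCommGroup M] [AddCommGroup B] [DistribMulAction (NR R i) M]
    [DistribMulAction (NR R i) B] [DistribMulAction (HQ (R i)) M] {p : G → M} {r : G → B} {f : M →+ M →+ B}
    (m : ModQ V R i M B p r f) {x : M} (hx : x ∈ m.rad) (h : ∀ a ∈ AA V R i j, a • x = x) :
    ∀ s ∈ TT τ, s • x = x := by
  let _ := radAct m b.toBT
  have hfin : Finite M := m.finite_M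
  intro s hs
  have h1 := (dat b hF c τ hodd hUD I hinn hoddC k m).fix_T (m := ⟨x, hx⟩)
    (fun a ha => Subtype.ext (h a ha)) s hs
  exact congrArg Subtype.val h1

end main

end Cfsg.Agent.Omega.HOneQ.FrRad

end

section


/-!
# II.0h1, SPLIT, `q ≥ 4` (bb #15121 (e), (f)): the Frattini property of `E = ⟨A^H⟩`

* `exists_pi` : `π : W i / R i → W i / Z(W i)`;
* `fix_line'` : an element of `H⁰` normalising `A` and commuting with `T` modulo `A` fixes the line of `W i / Z(W i)`;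
* `HE_fix` : `H_E` fixes the line of `W i / R i`; `cen_SE` : `C(S_E)` on `W i / Z(W i)` is the line;
* `five3` : the data of `Five3`; **`frattini`** : `N(R i) = Ê (N(R i) ∩ N(V))`, from `KD`.
-/

set_option autoImplicit false
set_option linter.unusedSectionVars false

namespace Cfsg.Agent.Omega.HOneQ.Fr

open Subgroup Cfsg Cfsg.Agent.Omega.BTwo Cfsg.Agent.Omega.Lie Cfsg.Agent.Omega.Lie.Quot
open Cfsg.Agent.Omega.HOneQ.ECen Cfsg.Agent.Omega.HOne.ModZ
open Cfsg.Agent.Omega.Lie.Layer (OddC InnC InnA Cps)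

universe u v w

variable {G : Type u} [Group G] {ι : Type w} {V : Subgroup G} {R : ι → Subgroup G} {i j : ι}
  {F : Type v} [Field F] {vv : F → F → G} {w1 w2 t : F → G}

section pi

variable {M B : Type u} [AddCommGroup M] [AddCommGroup B] [DistribMulAction (NR R i) M] [DistribMulAction (NR R i) B]
  [DistribMulAction (HQ (R i)) M] {p : G → M} {r : G → B} {f : M →+ M →+ B} (m : ModQ V R i M B p r f)
  {M' : Type u} [AddCommGroup M'] [DistribMulAction (HQ (R i)) M'] {p' : G → M'} (m' : MZ V R i M' p')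

include m m'

/-- the projection `W i / R i → W i / Z(W i)` -/
theorem exists_pi (b : BT V R) : ∃ π : M →+ M', (∀ x ∈ WW V (R i), π (p x) = p' x) ∧
    (∀ (h : HQ (R i)) x, π (h • x) = h • π x) ∧ ∀ x, π x = 0 ↔ x ∈ m.rad := by
  have hwd : ∀ x ∈ WW V (R i), ∀ y ∈ WW V (R i), p x = p y → p' x = p' y := fun x hx y hy h =>
    (m'.p_eq_iff hx hy).2 (b.R_le_Z i ((m.p_eq_iff hx hy).1 h))
  have key : ∀ a : M, ∃ a' : M', ∀ x ∈ WW V (R i), p x = a → p' x = a' := by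
    intro a
    obtain ⟨x, hx, rfl⟩ := m.p_surj a
    exact ⟨p' x, fun y hy h => hwd y hy x hx h⟩
  choose π0 hπ0 using key
  have h0 : ∀ x ∈ WW V (R i), π0 (p x) = p' x := fun x hx => (hπ0 _ x hx rfl).symm
  have hadd : ∀ a a', π0 (a + a') = π0 a + π0 a' := by
    intro a a'
    obtain ⟨x, hx, rfl⟩ := m.p_surj a
    obtain ⟨y, hy, rfl⟩ := m.p_surj a'
    rw [← m.p_mul x hx y hy, h0 _ (mul_mem hx hy), h0 x hx, h0 y hy, m'.p_mul x hx y hy]
  refine ⟨AddMonoidHom.mk' π0 hadd, h0, ?_, ?_⟩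
  · intro h a
    obtain ⟨g, hg, rfl⟩ := exists_pr h
    obtain ⟨x, hx, rfl⟩ := m.p_surj a
    change π0 _ = _ • π0 _
    rw [m.act hg hx, h0 _ (conj_mem_of_normalizer (normalizer_le_WW V (R i) hg) hx), h0 x hx, m'.p_act g hg x hx]
  · intro a
    obtain ⟨x, hx, rfl⟩ := m.p_surj a
    change π0 _ = 0 ↔ _
    rw [h0 x hx, m'.p_ker x hx, m.mem_rad b]
    constructor
    · exact fun h => ⟨x, h, rfl⟩
    · rintro ⟨z, hz, e⟩
      have h1 := (m.p_eq_iff hz.1 hx).1 e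
      have h2 : x = (z * x⁻¹)⁻¹ * z := by group
      rw [h2]
      exact mul_mem (inv_mem (b.R_le_Z i h1)) hz

end pi

section line

variable {M : Type u} [AddCommGroup M] [Module F M] [DistribMulAction (HQ (R i)) M] {p : G → M}
  {f : M →ₗ[F] M →ₗ[F] F} {e : F →ₗ[F] M} {ω : M →ₗ[F] F} {σ : HQ (R i) →* RingAut F} {κ : HQ (R i) → F}
  {N : Type u} [AddCommGroup N] [Module F N] {P1 P2 : G → N} [Finite F] [CharP F 2]

/-- `A` fixes the line -/
theorem AA_e (q : Fq V R i vv M p f e ω σ κ) (b : BT V R) (c : Coord V R i j vv w1 w2) {a : HQ (R i)}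
    (ha : a ∈ AA V R i j) (γ : F) : a • e γ = e γ := by
  obtain ⟨u, hu, rfl⟩ := (mem_AA b).1 ha
  exact q.cenV_e c _ (UU_le_cen j hu) γ

/-- **(e)**, in `W i / Z(W i)` -/
theorem fix_line' [Finite G] (q : Fq V R i vv M p f e ω σ κ) (b : BTS V R) (hF : ∃ a : F, a ≠ 0 ∧ a ≠ 1)
    (c : Coord V R i j vv w1 w2) (τ : TorD V R i j vv t)
    (hodd : Odd ((normalizer (V : Set G)).relIndex (normalizer (R i : Set G)))) (hUD : ¬ UU V R j ≤ DD V R)
    (y : YPair V R i j w1 w2 N P1 P2) {h : HQ (R i)} (hh : h ∈ H0 R i) (hA : ∀ a ∈ AA V R i j, h⁻¹ * a * h ∈ AA V R i j)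
    (hT : ∀ x ∈ TT τ, h⁻¹ * x * h * x⁻¹ ∈ AA V R i j) (γ : F) : ∃ γ', h • e γ = e γ' := by
  set x := h • e γ with hx
  -- `x` is fixed by `A`
  have h1 : ∀ a ∈ AA V R i j, a • x = x := by
    intro a ha
    have h2 := AA_e q b.toBT c (hA a ha) γ
    rw [mul_smul, mul_smul, inv_smul_eq_iff] at h2
    exact h2
  -- the eigenvalue
  have h2 : ∀ a : Fˣ, pr (R i) ⟨t a, τ.normR a.ne_zero⟩ • x = (a : F)⁻¹ • x := by
    intro a
    set ta := pr (R i) ⟨t a, τ.normR a.ne_zero⟩ with hta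
    have h3 := AA_e q b.toBT c (hT ta ((mem_TT τ).2 ⟨a, a.ne_zero, rfl⟩)) ((a : F)⁻¹ * γ)
    have h4 : ta • e γ = e ((a : F)⁻¹ * γ) := by
      rw [q.t_e c τ, ← LinearMap.map_smul e, smul_eq_mul]
    have h5 : ta • x = h • (h⁻¹ * ta * h * ta⁻¹) • ta • e γ := by
      rw [hx, smul_smul, smul_smul, smul_smul]
      congr 1
      group
    rw [h5, h4, h3, ← smul_eq_mul, LinearMap.map_smul, q.H0_smul c hh]
  obtain ⟨a, ha, ha1⟩ := hF
  set a' : Fˣ := Units.mk0 a ha with ha'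
  have ha1' : (a' : F) ≠ 1 := ha1
  obtain ⟨g, hg, hgx⟩ := q.p_surj x
  have h3 : ω x = 0 := by
    rw [← hgx] at h1 ⊢
    rw [q.mem_P c hg]
    exact cenA b ⟨a, ha, ha1⟩ c τ hodd hUD q.toMZ hg h1
  obtain ⟨π, hsurj, hπ, -, -, hπT⟩ := q.exists_pi b.toBT c τ y ⟨a, ha, ha1⟩
  have h4 : ω (pr (R i) ⟨t a', τ.normR a'.ne_zero⟩ • x) = 0 := by rw [q.t_ω c τ, h3, mul_zero]
  have h5 := hπT a' ⟨x, h3⟩ h4
  have h6 : (⟨_, h4⟩ : LinearMap.ker ω) = (a' : F)⁻¹ • ⟨x, h3⟩ := Subtype.ext (h2 a')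
  rw [h6, map_smul] at h5
  have h7 : π ⟨x, h3⟩ = 0 := by
    by_contra hne
    have h8 : ((a' : F)⁻¹ - a') • π ⟨x, h3⟩ = 0 := by rw [sub_smul, h5, sub_self]
    have h9 := (smul_eq_zero.1 h8).resolve_right hne
    have h10 : (a' : F) * a' = 1 := by
      have := a'.ne_zero
      field_simp at h9
      linear_combination -h9
    apply ha1'
    have h2F : (2 : F) = 0 := CharP.cast_eq_zero F 2
    have h11 : ((a' : F) - 1) * (a' - 1) = 0 := by linear_combination h10 + (1 - a') * h2F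
    exact sub_eq_zero.1 (mul_self_eq_zero.1 h11)
  have h8 : x ∈ q.toMZ.sb (DD V R) := (hπ ⟨x, h3⟩).1 h7
  obtain ⟨δ, hδ⟩ := q.t_D b.toBT c τ y a' h8
  rw [h2 a'] at hδ
  have h9 : (a' : F)⁻¹ - 1 ≠ 0 := by
    intro h9
    apply ha1'
    have := a'.ne_zero
    field_simp at h9
    linear_combination -h9
  refine ⟨((a' : F)⁻¹ - 1)⁻¹ * δ, ?_⟩
  have h10 : (a' : F)⁻¹ • x - x = ((a' : F)⁻¹ - 1) • x := by rw [sub_smul, one_smul]
  rw [← smul_eq_mul, LinearMap.map_smul, hδ, h10, smul_smul, inv_mul_cancel₀ h9, one_smul]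

end line

section grp

variable {τ : TorD V R i j vv t}

theorem S_A {S : Subgroup (HQ (R i))} (I : SylI τ S) (b : BT V R) {s a : HQ (R i)} (hs : s ∈ S)
    (ha : a ∈ AA V R i j) : s * a * s⁻¹ ∈ AA V R i j := by
  obtain ⟨g, hg, hgV, rfl⟩ := I.rep s hs
  obtain ⟨u, hu, rfl⟩ := (mem_AA b).1 ha
  refine (mem_AA b).2 ⟨g * u * g⁻¹, conj_mem_of_normalizer (b.cen_le_NU j hgV) hu, ?_⟩
  rw [← map_mul, ← map_inv, ← map_mul]
  rfl

/-- an element normalising `S' ≤ S` and commuting with `T` modulo `A` normalises `A` -/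
theorem norm_A {S : Subgroup (HQ (R i))} (I : SylI τ S) (b : BT V R) (hij : i ≠ j) (hF : ∃ a : F, a ≠ 0 ∧ a ≠ 1)
    {S' : Subgroup (HQ (R i))} (hAS : AA V R i j ≤ S') (hS' : S' ≤ S) {n : HQ (R i)} (hn : ∀ s ∈ S', n * s * n⁻¹ ∈ S')
    (hT : ∀ x ∈ TT τ, n * x * n⁻¹ * x⁻¹ ∈ AA V R i j)
    {a : HQ (R i)} (ha : a ∈ AA V R i j) : n * a * n⁻¹ ∈ AA V R i j := by
  obtain ⟨s, hs, hs1⟩ := hF
  obtain ⟨a', ha', rfl⟩ := A_gen b τ hij hs hs1 ha
  set x := pr (R i) ⟨t s, τ.normR hs⟩ with hx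
  have hxT : x ∈ TT τ := (mem_TT τ).2 ⟨s, hs, rfl⟩
  have h1 := hT x hxT
  set c := n * x * n⁻¹ * x⁻¹ with hc
  have h2 : n * a' * n⁻¹ ∈ S' := hn _ (hAS ha')
  set s' := n * a' * n⁻¹ with hs'
  have h3 : s'⁻¹ * (x * s' * x⁻¹) ∈ AA V R i j := I.ST x hxT s' (hS' h2)
  have e : n * (a'⁻¹ * (x * a' * x⁻¹)) * n⁻¹ = (s'⁻¹ * c * s') * (s'⁻¹ * (x * s' * x⁻¹)) * c⁻¹ := by
    rw [hs', hc]; group
  rw [e]
  have h4 : s'⁻¹ * c * s' ∈ AA V R i j := by
    have := S_A I b (inv_mem (hS' h2)) h1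
    rwa [inv_inv] at this
  exact mul_mem (mul_mem h4 h3) (inv_mem h1)

end grp

section emb

variable {M B : Type u} [AddCommGroup M] [AddCommGroup B] [DistribMulAction (NR R i) M] [DistribMulAction (NR R i) B]
  [DistribMulAction (HQ (R i)) M] {p : G → M} {r : G → B} {f : M →+ M →+ B} (m : ModQ V R i M B p r f)
  (c : Coord V R i j vv w1 w2)

/-- the line in `W i / R i` -/
def eM : F →+ M where
  toFun γ := p (vv 0 γ)
  map_zero' := by
    have h0 := (m.p_ker _ (V_le_WW V (R i) (c.v_mem 0 0))).2 ((c.mem_R1 _).2 ⟨0, rfl⟩)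
    exact h0
  map_add' γ γ' := by
    have h := c.v_add 0 γ 0 γ'
    rw [add_zero] at h
    rw [h, m.p_mul _ (V_le_WW V (R i) (c.v_mem 0 γ)) _ (V_le_WW V (R i) (c.v_mem 0 γ'))]

theorem eM_apply (γ : F) : eM m c γ = p (vv 0 γ) := rfl

/-- the line is the image of `V` -/
theorem p_v (β γ : F) : p (vv β γ) = eM m c γ := by
  rw [eM_apply, m.p_eq_iff (V_le_WW V (R i) (c.v_mem β γ)) (V_le_WW V (R i) (c.v_mem 0 γ))]
  have h := c.v_add β 0 0 γ
  rw [add_zero, zero_add] at h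
  rw [h, mul_inv_cancel_right]
  exact (c.mem_R1 _).2 ⟨β, rfl⟩

theorem t_eM (τ : TorD V R i j vv t) (a : Fˣ) (γ : F) :
    pr (R i) ⟨t a, τ.normR a.ne_zero⟩ • eM m c γ = eM m c ((a : F)⁻¹ * γ) := by
  rw [eM_apply, m.act _ (V_le_WW V (R i) (c.v_mem 0 γ)), τ.act _ _ _ a.ne_zero, mul_zero, eM_apply]

theorem cenV_eM {g : G} (hg : g ∈ normalizer (R i : Set G)) (h : g ∈ centralizer (V : Set G)) (γ : F) :
    pr (R i) ⟨g, hg⟩ • eM m c γ = eM m c γ := by
  rw [eM_apply, m.act hg (V_le_WW V (R i) (c.v_mem 0 γ)), ← mem_centralizer_iff.1 h _ (c.v_mem 0 γ),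
    mul_inv_cancel_right]

/-- an element fixing the line normalises `V` -/
theorem mem_NV_of (b : BT V R) [Finite G] {g : G} (hg : g ∈ normalizer (R i : Set G))
    (h : ∀ γ, ∃ γ', pr (R i) ⟨g, hg⟩ • eM m c γ = eM m c γ') : g ∈ normalizer (V : Set G) := by
  have h1 : ∀ z ∈ V, g * z * g⁻¹ ∈ V := by
    intro z hz
    obtain ⟨β, γ, rfl⟩ := (c.mem_V z).1 hz
    obtain ⟨γ', h2⟩ := h γ
    rw [← p_v m c β γ, m.act hg (V_le_WW V (R i) (c.v_mem β γ)), eM_apply, m.p_eq_iff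
      (conj_mem_of_normalizer (normalizer_le_WW V (R i) hg) (V_le_WW V (R i) (c.v_mem β γ)))
      (V_le_WW V (R i) (c.v_mem 0 γ'))] at h2
    have e : g * vv β γ * g⁻¹ = (g * vv β γ * g⁻¹ * (vv 0 γ')⁻¹) * vv 0 γ' := by group
    rw [e]
    exact mul_mem (b.R_le i h2) (c.v_mem 0 γ')
  have h2 : cj g V ≤ V := by
    rintro _ ⟨z, hz, rfl⟩
    exact h1 z hz
  exact cj_eq_self_iff.1 (eq_of_le_of_card_ge h2 (card_cj g V).ge)

end emb

section rad

variable {M B : Type u} [AddCommGroup M] [AddCommGroup B] [DistribMulAction (NR R i) M] [DistribMulAction (NR R i) B]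
  [DistribMulAction (HQ (R i)) M] {p : G → M} {r : G → B} {f : M →+ M →+ B} (m : ModQ V R i M B p r f)
  {N : Type u} [AddCommGroup N] [Module F N] {P1 P2 : G → N} [Finite F] [CharP F 2]
  (b : BTS V R) (c : Coord V R i j vv w1 w2) (τ : TorD V R i j vv t) (y : YPair V R i j w1 w2 N P1 P2)

include m b in
/-- the image of `D ∩ Z(W i)` is fixed by `T` and by `A` -/
theorem fix_of_D {z : G} (hz : z ∈ ZZ V R i) (hzD : z ∈ DD V R) :
    (∀ x ∈ TT τ, x • p z = p z) ∧ ∀ a ∈ AA V R i j, a • p z = p z := by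
  have hzW : z ∈ WW V (R i) := hz.1
  obtain ⟨r', hr', h1⟩ := b.cen_DW hzD hz.2
  constructor
  · intro x hx
    obtain ⟨s, hs, rfl⟩ := (mem_TT τ).1 hx
    have hN := τ.normR hs
    rw [m.act hN hzW, m.p_eq_iff (conj_mem_of_normalizer (normalizer_le_WW V (R i) hN) hzW) hzW]
    have c1 : Commute (t s) (r' * z) := LemNS.CenX_comm (τ.memX s hs) h1.2
    have e : t s * z * (t s)⁻¹ * z⁻¹ = (t s * r'⁻¹ * (t s)⁻¹) * r' := by
      calc t s * z * (t s)⁻¹ * z⁻¹ = (t s * r'⁻¹ * (t s)⁻¹) * (t s * (r' * z)) * (t s)⁻¹ * z⁻¹ := by group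
        _ = (t s * r'⁻¹ * (t s)⁻¹) * ((r' * z) * t s) * (t s)⁻¹ * z⁻¹ := by rw [c1.eq]
        _ = _ := by group
    rw [e]
    exact mul_mem (conj_mem_of_normalizer hN (inv_mem hr')) hr'
  · intro a ha
    obtain ⟨u, hu, rfl⟩ := (mem_AA b.toBT).1 ha
    have huN := U_le_N b.toBT i j hu
    rw [m.act huN hzW, m.p_eq_iff (conj_mem_of_normalizer (normalizer_le_WW V (R i) huN) hzW) hzW]
    have c1 : Commute u (r' * z) := LemNS.CenX_comm (W_le_X V R j (UU_le_WW j hu)) h1.2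
    have c2 : Commute u r' := (mem_centralizer_iff.1 (UU_le_cen j hu) r' (b.R_le i hr')).symm
    have c3 : Commute u z := by
      have h3 := c2.inv_right.mul_right c1
      rwa [inv_mul_cancel_left] at h3
    rw [c3.eq, mul_inv_cancel_right, mul_inv_cancel]
    exact one_mem _

include m b c y in
/-- a `T`-fixed vector of the radical is fixed by `A` -/
theorem rad_A {a : F} (ha : a ≠ 0) (ha1 : a ≠ 1) {x : M} (hx : x ∈ m.rad) (h : ∀ x' ∈ TT τ, x' • x = x) :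
    ∀ a ∈ AA V R i j, a • x = x := by
  obtain ⟨z, hz, rfl⟩ := (m.mem_rad b.toBT).1 hx
  have hzW : z ∈ WW V (R i) := hz.1
  have hzY : z ∈ YY V R := UU_le_YY i (zU_le i hz)
  have hN := τ.normR ha
  have h1 := h _ ((mem_TT τ).2 ⟨a, ha, rfl⟩)
  rw [m.act hN hzW, m.p_eq_iff (conj_mem_of_normalizer (normalizer_le_WW V (R i) hN) hzW) hzW] at h1
  have hD := V_le_D V R (b.R_le i h1)
  have hY1 := y.X_Y b.toBT c (τ.memX a ha) hzY
  have h2 := (y.mem_D _ (mul_mem hY1 (inv_mem hzY))).1 hD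
  rw [y.mul1 _ hY1 _ (inv_mem hzY), y.inv1 hzY, (t_Y b.toBT c τ y ha hzY).1, ← sub_eq_add_neg] at h2
  have h3 : (a - 1) • P1 z = 0 := by rw [sub_smul, one_smul]; exact h2.1
  have h4 := (smul_eq_zero.1 h3).resolve_left (sub_ne_zero.2 ha1)
  have h5 : z ∈ DD V R := (y.mem_D _ hzY).2 ⟨h4, (y.mem_U1 _ hzY).1 (zU_le i hz)⟩
  exact (fix_of_D m b τ hz h5).2

include m b c y in
/-- `T` acts on `rad / C_rad(T)` as `F^*` -/
theorem rad_T {a a' a'' : F} (ha : a ≠ 0) (ha' : a' ≠ 0) (ha'' : a'' ≠ 0) (h : a + a' = a'') {x : M}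
    (hx : x ∈ m.rad) : ∀ x' ∈ TT τ, x' • (pr (R i) ⟨t a, τ.normR ha⟩ • x + pr (R i) ⟨t a', τ.normR ha'⟩ • x -
      pr (R i) ⟨t a'', τ.normR ha''⟩ • x) = pr (R i) ⟨t a, τ.normR ha⟩ • x + pr (R i) ⟨t a', τ.normR ha'⟩ • x -
      pr (R i) ⟨t a'', τ.normR ha''⟩ • x := by
  obtain ⟨z, hz, rfl⟩ := (m.mem_rad b.toBT).1 hx
  have hzW : z ∈ WW V (R i) := hz.1
  have hzY : z ∈ YY V R := UU_le_YY i (zU_le i hz)
  have key : ∀ s : F, ∀ hs : s ≠ 0, t s * z * (t s)⁻¹ ∈ ZZ V R i ∧ P1 (t s * z * (t s)⁻¹) = s • P1 z ∧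
      P2 (t s * z * (t s)⁻¹) = 0 := by
    intro s hs
    have h1 := t_Y b.toBT c τ y hs hzY
    refine ⟨conj_mem_of_normalizer (LemNS.N_le_NZ i (τ.normR hs)) hz, h1.1, ?_⟩
    rw [h1.2, (y.mem_U1 _ hzY).1 (zU_le i hz), smul_zero]
  have k1 := key a ha
  have k2 := key a' ha'
  have k3 := key a'' ha''
  rw [m.act _ hzW, m.act _ hzW, m.act _ hzW, ← m.p_mul _ k1.1.1 _ k2.1.1, sub_eq_add_neg,
    ← m.p_inv k3.1.1, ← m.p_mul _ (mul_mem k1.1.1 k2.1.1) _ (inv_mem k3.1.1)]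
  refine (fix_of_D m b τ (mul_mem (mul_mem k1.1 k2.1) (inv_mem k3.1)) ?_).1
  have y1 : ∀ s, s ∈ ZZ V R i → s ∈ YY V R := fun s hs => UU_le_YY i (zU_le i hs)
  rw [y.mem_D _ (mul_mem (mul_mem (y1 _ k1.1) (y1 _ k2.1)) (inv_mem (y1 _ k3.1))),
    y.mul1 _ (mul_mem (y1 _ k1.1) (y1 _ k2.1)) _ (inv_mem (y1 _ k3.1)),
    y.mul2 _ (mul_mem (y1 _ k1.1) (y1 _ k2.1)) _ (inv_mem (y1 _ k3.1)), y.mul1 _ (y1 _ k1.1) _ (y1 _ k2.1),
    y.mul2 _ (y1 _ k1.1) _ (y1 _ k2.1), y.inv1 (y1 _ k3.1), y.inv2 (y1 _ k3.1), k1.2.1, k2.2.1, k3.2.1, k1.2.2,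
    k2.2.2, k3.2.2, ← h, add_smul]
  exact ⟨by abel, by abel⟩

end rad

section main

variable [Finite G] [Finite F] [CharP F 2] (b : BTS V R) (hF : ∃ a : F, a ≠ 0 ∧ a ≠ 1)
  (c : Coord V R i j vv w1 w2) (τ : TorD V R i j vv t)
  (hodd : Odd ((normalizer (V : Set G)).relIndex (normalizer (R i : Set G))))
  (hZ : ∃ z ∈ BTwo.ZZ V R j, z ∉ DD V R)
  {S : Subgroup (HQ (R i))} (I : SylI τ S) (hinn : InnC V R i j) (hoddC : OddC V R i j)
  {HE : Subgroup (HQ (R i))} {w : HQ (R i)} (k : KD (EE V R i j) (S ⊓ EE V R i j) HE (AA V R i j) (TT τ) w)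
  {M B : Type u} [AddCommGroup M] [AddCommGroup B] [DistribMulAction (NR R i) M] [DistribMulAction (NR R i) B]
  [DistribMulAction (HQ (R i)) M] {p : G → M} {r : G → B} {f : M →+ M →+ B} (m : ModQ V R i M B p r f)
  {N : Type u} [AddCommGroup N] [Module F N] {P1 P2 : G → N} (y : YPair V R i j w1 w2 N P1 P2)
  {M' : Type u} [AddCommGroup M'] [Module F M'] [DistribMulAction (HQ (R i)) M'] {p' : G → M'}
  {f' : M' →ₗ[F] M' →ₗ[F] F} {e' : F →ₗ[F] M'} {ω : M' →ₗ[F] F} {σ : HQ (R i) →* RingAut F} {κ : HQ (R i) → F}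
  (q : Fq V R i vv M' p' f' e' ω σ κ)

include hZ in
theorem hUD_of : ¬ UU V R j ≤ DD V R := by
  obtain ⟨z, hz, h⟩ := hZ
  exact fun hle => h (hle (zU_le j hz))

include b hF c τ hodd hZ I hinn hoddC k m y q

/-- `H_E` fixes the line -/
theorem HE_fix {n : HQ (R i)} (hn : n ∈ HE) (γ : F) : ∃ γ', n • eM m c γ = eM m c γ' := by
  obtain ⟨π, hπp, hπs, hπr⟩ := exists_pi m q.toMZ b.toBT
  have hUD := hUD_of hZ
  have hπe : ∀ γ, π (eM m c γ) = e' γ := fun γ => by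
    rw [eM_apply, hπp _ (V_le_WW V (R i) (c.v_mem 0 γ)), q.e_eq]
  have hnA : ∀ a ∈ AA V R i j, n⁻¹ * a * n ∈ AA V R i j := by
    intro a ha
    have := FrRad.norm_A b hF τ I k (inv_mem hn) ha
    rwa [inv_inv] at this
  have hnT : ∀ x ∈ TT τ, n⁻¹ * x * n * x⁻¹ ∈ AA V R i j := by
    intro x hx
    have := k.com _ (inv_mem hn) x hx
    rwa [inv_inv] at this
  have hnH : n ∈ H0 R i := EE_le_H0 b.toBT (k.cpl.HB hn).1
  obtain ⟨s, hs, hs1⟩ := hF
  have h1 := CRad.mem_of_fix (A := AA V R i j) (T := TT τ) (e := (eM m c).range) (rad := m.rad) (g := n) hnA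
    (k.com n hn) (fun x hx a ha => TA_mem b.toBT τ hx ha) (by
      rintro x hx _ ⟨δ, rfl⟩
      obtain ⟨a, ha, rfl⟩ := (mem_TT τ).1 hx
      exact ⟨_, (t_eM m c τ (Units.mk0 a ha) δ).symm⟩) (by
      rintro a ha _ ⟨δ, rfl⟩
      obtain ⟨u, hu, rfl⟩ := (mem_AA b.toBT).1 ha
      exact cenV_eM m c _ (UU_le_cen j hu) δ) (by
      rintro _ ⟨δ, rfl⟩
      have h9 : s⁻¹ - 1 ≠ 0 := by
        intro h9
        apply hs1
        field_simp at h9
        linear_combination -h9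
      refine AddSubgroup.subset_closure ⟨_, (mem_TT τ).2 ⟨s, hs, rfl⟩, eM m c ((s⁻¹ - 1)⁻¹ * δ), ⟨_, rfl⟩, ?_⟩
      have h2 : pr (R i) ⟨t s, τ.normR hs⟩ • eM m c ((s⁻¹ - 1)⁻¹ * δ) = eM m c (s⁻¹ * ((s⁻¹ - 1)⁻¹ * δ)) :=
        t_eM m c τ (Units.mk0 s hs) _
      rw [h2, ← map_sub]
      congr 1
      have h10 : δ = (s⁻¹ - 1) * ((s⁻¹ - 1)⁻¹ * δ) := by rw [mul_inv_cancel_left₀ h9]
      rw [sub_mul, one_mul] at h10
      exact h10)
    (fun x hx h => FrRad.fix_T_rad b ⟨s, hs, hs1⟩ c τ hodd hUD I hinn hoddC k m hx h) (by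
      rintro _ ⟨δ, rfl⟩
      obtain ⟨δ', h2⟩ := fix_line' q b ⟨s, hs, hs1⟩ c τ hodd hUD y hnH hnA hnT δ
      have h3 : n • eM m c δ - eM m c δ' ∈ m.rad := by
        rw [← hπr, map_sub, hπs, hπe, hπe, h2, sub_self]
      have e : n • eM m c δ = eM m c δ' + (n • eM m c δ - eM m c δ') := by abel
      rw [e]
      exact AddSubgroup.add_mem_sup ⟨_, rfl⟩ h3) _ ⟨γ, rfl⟩
  obtain ⟨γ', h2⟩ := h1
  exact ⟨γ', h2.symm⟩

/-- the line in `W i / Z(W i)` is `C(S_E)` -/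
theorem cen_SE {x : M'} (hx : ∀ s ∈ S ⊓ EE V R i j, s • x = x) : ∃ γ, x = e' γ := by
  have hUD := hUD_of hZ
  have hfin : Finite M' := q.toMZ.finite_M
  have hexp := q.toMZ.two b.toBT
  have h1 : ∀ L : Subgroup (HQ (R i)), AA V R i j ≤ L → (∀ g ∈ EE V R i j, ∀ l ∈ L, g * l * g⁻¹ ∈ L) →
      EE V R i j ≤ L := fun L hL hn => E_gen b hF c τ hodd hUD I hinn hoddC hL hn
  have hEn : (EE V R i j).Normal := EE_normal
  have hSe : ∀ s ∈ S ⊓ EE V R i j, ∀ γ, s • e' γ = e' γ := by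
    intro s hs γ
    obtain ⟨g, hg, hgV, rfl⟩ := I.rep s hs.1
    exact q.cenV_e c hg hgV γ
  have hπ := exists_pi m q.toMZ b.toBT
  have h2 := k.CR M' hexp ⊤ ⊥ (fun _ _ _ _ => trivial) (fun _ _ _ _ => trivial)
    (fun g _ x hx => by rw [AddSubgroup.mem_bot] at hx ⊢; rw [hx, smul_zero])
    (fun g _ x hx => by rw [AddSubgroup.mem_bot] at hx ⊢; rw [hx, smul_zero]) (by
      rw [bot_lt_iff_ne_bot]
      intro h0
      have h3 : e' 1 ∈ (⊤ : AddSubgroup M') := trivial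
      rw [h0, AddSubgroup.mem_bot, ← map_zero e'] at h3
      exact one_ne_zero (q.e_inj c b.toBT h3)) (fun Z hZE hZT _ _ => by
      by_cases h0 : Z = ⊥
      · exact Or.inl h0
      · exact Or.inr (q.irred b c τ y hF hodd hZ AA_le_EE (fun L hL hn => h1 L hL hn) hZE hZT h0))
    (LinearMap.range e').toAddSubgroup (by
      rw [bot_lt_iff_ne_bot]
      intro h0
      have h3 : e' 1 ∈ (LinearMap.range e').toAddSubgroup := ⟨1, rfl⟩
      rw [h0, AddSubgroup.mem_bot, ← map_zero e'] at h3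
      exact one_ne_zero (q.e_inj c b.toBT h3)) le_top (CRad.inv_sup (by
        rintro x hx _ ⟨δ, rfl⟩
        obtain ⟨a, ha, rfl⟩ := (mem_TT τ).1 hx
        refine ⟨a⁻¹ * δ, ?_⟩
        rw [← smul_eq_mul, LinearMap.map_smul]
        exact (q.t_e c τ (Units.mk0 a ha) δ).symm) (by
        rintro n hn _ ⟨δ, rfl⟩
        have hnA : ∀ a ∈ AA V R i j, n⁻¹ * a * n ∈ AA V R i j := by
          intro a ha
          have := FrRad.norm_A b hF τ I k (inv_mem hn) ha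
          rwa [inv_inv] at this
        have hnT : ∀ x ∈ TT τ, n⁻¹ * x * n * x⁻¹ ∈ AA V R i j := by
          intro x hx
          have := k.com _ (inv_mem hn) x hx
          rwa [inv_inv] at this
        obtain ⟨γ', h⟩ := fix_line' q b hF c τ hodd hUD y (EE_le_H0 b.toBT (k.cpl.HB hn).1) hnA hnT δ
        exact ⟨γ', h.symm⟩)) (by
      rintro s hs _ ⟨δ, rfl⟩
      rw [hSe s hs, sub_self]
      exact zero_mem _) x trivial (fun s hs => by rw [hx s hs, sub_self]; exact zero_mem _)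
  obtain ⟨γ, h⟩ := h2
  exact ⟨γ, h.symm⟩

/-- **the data of `Five3`** -/
theorem five3 {π : M →+ M'} (hπp : ∀ x ∈ WW V (R i), π (p x) = p' x)
    (hπs : ∀ (h : HQ (R i)) x, π (h • x) = h • π x) (hπr : ∀ x, π x = 0 ↔ x ∈ m.rad) :
    Five3.Dat (EE V R i j) (S ⊓ EE V R i j) HE (AA V R i j) (fun a : Fˣ => pr (R i) ⟨t a, τ.normR a.ne_zero⟩) w
      (eM m c) π (fun x y => f' x y) (fun x => ω x) := by
  have hUD := hUD_of hZ
  have hfin : Finite M' := q.toMZ.finite_M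
  have hexp := q.toMZ.two b.toBT
  have hπe : ∀ γ, π (eM m c γ) = e' γ := fun γ => by
    rw [eM_apply, hπp _ (V_le_WW V (R i) (c.v_mem 0 γ)), q.e_eq]
  have hSeM : ∀ s ∈ S ⊓ EE V R i j, ∀ γ, s • eM m c γ = eM m c γ := by
    intro s hs γ
    obtain ⟨g, hg, hgV, rfl⟩ := I.rep s hs.1
    exact cenV_eM m c hg hgV γ
  have hEH : EE V R i j ≤ H0 R i := EE_le_H0 b.toBT
  have hgenE : ∀ L : Subgroup (HQ (R i)), AA V R i j ≤ L → (∀ g ∈ EE V R i j, ∀ l ∈ L, g * l * g⁻¹ ∈ L) →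
      EE V R i j ≤ L := fun L hL hn => E_gen b hF c τ hodd hUD I hinn hoddC hL hn
  have hEn : (EE V R i j).Normal := EE_normal
  exact
    { einj := by
        intro γ h
        rw [hπe, ← map_zero e'] at h
        exact q.e_inj c b.toBT h
      te := by
        intro a γ
        rw [Units.val_inv_eq_inv_val]
        exact t_eM m c τ a γ
      Se := hSeM
      HEe := fun n hn γ => HE_fix b hF c τ hodd hZ I hinn hoddC k m y q hn γ
      πact := hπs
      fsymm := q.symm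
      fe := fun x γ => by rw [hπe]; exact q.fe x γ
      fw := fun x x' => q.H0_isom c (hEH k.w_mem) x x'
      ft := fun a x x' => q.t_f c τ a x x'
      fne := by
        let f'' : M' →+ M' →+ F := AddMonoidHom.mk' (fun x => (f' x).toAddMonoidHom) (by
          intro x x'
          apply AddMonoidHom.ext
          intro z
          change f' (x + x') z = f' x z + f' x' z
          rw [map_add]
          rfl)
        refine Five3.fne_of_gen (f := f'') (ω := fun x => ω x) hSeM hπs q.symm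
          (fun x γ => by rw [hπe]; exact q.fe x γ) (fun x x' => q.H0_isom c (hEH k.w_mem) x x')
          (fun s hs x x' => q.H0_isom c (hEH hs.2) x x')
          ⟨p' (w1 1), by rw [q.ω_w1 c]; exact one_ne_zero⟩ ?_
        intro L hL
        refine k.span M' hexp (fun L' hE hT => ?_) L fun s hs x hx => ?_
        · by_cases h0 : L' = ⊥
          · exact Or.inl h0
          · exact Or.inr (q.irred b c τ y hF hodd hZ AA_le_EE (fun L hL hn => hgenE L hL hn) hE hT h0)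
        · obtain ⟨γ, rfl⟩ := cen_SE b hF c τ hodd hZ I hinn hoddC k m y q hx
          rw [← hπe]
          exact hL s hs γ
      wt := fun a => k.wt _ ((mem_TT τ).2 ⟨a, a.ne_zero, rfl⟩)
      rad_T := by
        intro x hx a a' a'' h r'
        exact rad_T m b c τ y a.ne_zero a'.ne_zero a''.ne_zero h ((hπr x).1 hx) _
          ((mem_TT τ).2 ⟨r', r'.ne_zero, rfl⟩)
      rad_A := by
        intro x hx h
        obtain ⟨a, ha, ha1⟩ := hF
        refine rad_A m b c τ y ha ha1 ((hπr x).1 hx) ?_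
        intro x' hx'
        obtain ⟨s, hs, rfl⟩ := (mem_TT τ).1 hx'
        exact h (Units.mk0 s hs)
      A_T := fun x hx h a => FrRad.fix_T_rad b hF c τ hodd hUD I hinn hoddC k m ((hπr x).1 hx) h _
        ((mem_TT τ).2 ⟨a, a.ne_zero, rfl⟩)
      AS := le_inf I.AS AA_le_EE
      gen := k.gen
      CE := by
        intro x hx h
        obtain ⟨z, hz, rfl⟩ := (m.mem_rad b.toBT).1 ((hπr x).1 hx)
        have hzW : z ∈ WW V (R i) := hz.1
        rw [m.p_ker z hzW]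
        refine cen_EE b hF c τ hodd hUD I hinn hoddC hz fun g hg => ?_
        obtain ⟨hgN, hgE⟩ := mem_lift.1 hg
        have h1 := h _ hgE
        rwa [m.act hgN hzW, m.p_eq_iff (conj_mem_of_normalizer (normalizer_le_WW V (R i) hgN) hzW) hzW] at h1
      cen := by
        intro x hx
        obtain ⟨γ, rfl⟩ := cen_SE b hF c τ hodd hZ I hinn hoddC k m y q hx
        exact ⟨γ, (hπe γ).symm⟩ }

end main

section final

variable [Finite G] [Finite F] [CharP F 2] (b : BTS V R) (hF : ∃ a : F, a ≠ 0 ∧ a ≠ 1)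
  (c : Coord V R i j vv w1 w2) (τ : TorD V R i j vv t)
  (hodd : Odd ((normalizer (V : Set G)).relIndex (normalizer (R i : Set G))))
  (hZ : ∃ z ∈ BTwo.ZZ V R j, z ∉ DD V R)
  {S : Subgroup (HQ (R i))} (I : SylI τ S) (hinn : InnC V R i j) (hoddC : OddC V R i j)
  {HE : Subgroup (HQ (R i))} {w : HQ (R i)} (k : KD (EE V R i j) (S ⊓ EE V R i j) HE (AA V R i j) (TT τ) w)

include b hF c τ hodd hZ I hinn hoddC k

/-- **(Fr)**: `N(R i) = Ê (N(R i) ∩ N(V))`, `Ê` the preimage of `E = ⟨A^H⟩` -/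
theorem frattini {g : G} (hg : g ∈ normalizer (R i : Set G)) :
    ∃ x ∈ lift (R i) (EE V R i j), x * g ∈ normalizer (V : Set G) := by
  obtain ⟨M, B, _, _, _, _, _, p, r, f, m⟩ := exists_modQ b.toBT i
  obtain ⟨M', _, _, p', _, f', e', ω, σ, κ, q⟩ := exists_frame hF b.toBT c τ
  obtain ⟨N, _, _, P1, P2, y⟩ := c.exists_yPair b.toBT
  obtain ⟨π, hπp, hπs, hπr⟩ := exists_pi m q.toMZ b.toBT
  have h5 := five3 b hF c τ hodd hZ I hinn hoddC k m y q hπp hπs hπr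
  have hEn : (EE V R i j).Normal := EE_normal
  obtain ⟨x, hx, h⟩ := h5.frattini hF (fun g hg h' => hEn.conj_mem g hg h') inf_le_right (I.S2.to_le inf_le_left)
    (FrRad.SE_odd I hEn (EE_le_H0 b.toBT)) k.cpl (pr (R i) ⟨g, hg⟩)
  obtain ⟨x', hx', rfl⟩ := exists_pr x
  refine ⟨x', mem_lift.2 ⟨hx', hx⟩, mem_NV_of m c b.toBT (mul_mem hx' hg) fun γ => ?_⟩
  obtain ⟨γ', h1⟩ := h γ
  exact ⟨γ', h1⟩

end final

end Cfsg.Agent.Omega.HOneQ.Fr

end

section


/-!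
# `N_H(A) ≤ N(V)` (II.0h1 split, `q ≥ 4`; OMEGA #17641 (2)); helper866

`hd` : (d) of bb #15121 from `FrRad.fix_T_rad` in the form wanted by `NormE.normE`;
`normV` : `g ∈ N(R i)` with `A^g ≤ A` (in `HQ (R i)`) normalises `V`.
-/

set_option autoImplicit false
set_option linter.unusedSectionVars false

namespace Cfsg.Agent.Omega.HOneQ.NormV

open Subgroup Cfsg Cfsg.Agent.Omega.BTwo Cfsg.Agent.Omega.Lie Cfsg.Agent.Omega.Lie.Quot
open Cfsg.Agent.Omega.HOne.ModZ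
open Cfsg.Agent.Omega.HOneQ.ECen (SylI EE)
open Cfsg.Agent.Omega.Lie.Layer (OddC InnC)
open Cfsg.Agent.Omega.HOneQ.Fr (KD)

universe u v w

variable {G : Type u} [Group G] [Finite G] {ι : Type w} {V : Subgroup G} {R : ι → Subgroup G} {i j : ι}
  {F : Type v} [Field F] [Finite F] [CharP F 2] {vv : F → F → G} {w1 w2 t : F → G}
  (b : BTS V R) (hF : ∃ a : F, a ≠ 0 ∧ a ≠ 1)
  (c : Coord V R i j vv w1 w2) (τ : TorD V R i j vv t)
  (hodd : Odd ((normalizer (V : Set G)).relIndex (normalizer (R i : Set G))))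
  {S : Subgroup (HQ (R i))} (I : SylI τ S) (hinn : InnC V R i j) (hoddC : OddC V R i j)
  {HE : Subgroup (HQ (R i))} {w : HQ (R i)}
  (k : KD (EE V R i j) (S ⊓ EE V R i j) HE (AA V R i j) (TT τ) w)

include b hF c τ hodd I hinn hoddC k

/-- **(d)** in elements of `G` -/
theorem hd (hUD : ¬ UU V R j ≤ DD V R) : ∀ z ∈ BTwo.ZZ V R i, (∀ u ∈ UU V R j, u * z * u⁻¹ * z⁻¹ ∈ R i) →
    ∀ a, a ≠ 0 → t a * z * (t a)⁻¹ * z⁻¹ ∈ R i := by
  intro z hz hu a ha
  obtain ⟨M, B, _, _, _, _, _, p, r, f, m⟩ := exists_modQ b.toBT i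
  have hzW : z ∈ WW V (R i) := hz.1
  have hNW := normalizer_le_WW V (R i)
  have h1 := FrRad.fix_T_rad b hF c τ hodd hUD I hinn hoddC k m ((m.mem_rad b.toBT).2 ⟨z, hz, rfl⟩)
    (by
      intro x hx
      obtain ⟨u, hu', rfl⟩ := (mem_AA b.toBT).1 hx
      have hN := U_le_N b.toBT i j hu'
      rw [m.act hN hzW, m.p_eq_iff (conj_mem_of_normalizer (hNW hN) hzW) hzW]
      exact hu u hu') _ ((mem_TT τ).2 ⟨a, ha, rfl⟩)
  rwa [m.act (τ.normR ha) hzW,
    m.p_eq_iff (conj_mem_of_normalizer (hNW (τ.normR ha)) hzW) hzW] at h1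

/-- **`N_H(A) ≤ N(V)`** -/
theorem normV (hZ : ∃ z ∈ BTwo.ZZ V R j, z ∉ DD V R) {g : G} (hg : g ∈ normalizer (R i : Set G))
    (hA : ∀ a ∈ AA V R i j, pr (R i) ⟨g, hg⟩ * a * (pr (R i) ⟨g, hg⟩)⁻¹ ∈ AA V R i j) :
    g ∈ normalizer (V : Set G) := by
  have hUD : ¬ UU V R j ≤ DD V R := by
    obtain ⟨z, hz, h⟩ := hZ
    exact fun hle => h (hle (zU_le j hz))
  obtain ⟨M', _, _, p', _, f', e', ω, σ, κ, q⟩ := exists_frame hF b.toBT c τ
  obtain ⟨N, _, _, P1, P2, y⟩ := c.exists_yPair b.toBT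
  exact NormE.normE q b.toBT c τ hF hodd (hd b hF c τ hodd I hinn hoddC k hUD) hg
    (NormA.normA q b c τ y hF hodd hZ hA)

end Cfsg.Agent.Omega.HOneQ.NormV

end

end
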