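import Cfsg.Agent.Mrg.Omega.BTwo.Split
import Cfsg.Agent.Mrg.Omega.BTwo.RadQ
import Cfsg.Agent.Mrg.Omega.Lie.TorD

-- merged: Cfsg.Agent.Mrg.Omega.HOneQ.Comm
section

/-!
# II.0h1, split case, all `q`: #12896 (5), (7)

`B_i = C(W i)`, `C_X = C(X)`, `Q_i = O₂(N(R i))`, `I = Q_1 ∩ Q_2 = ⋂ Q_i` (`CC R`).

* `comm_cen` : `[B_i, B_j] ≤ C_X`;
* `comm_hat` : `[B_i, C_{Q_j}(V)] ≤ R_i × C_X`;
* `comm_I` **(7)** : `[b, x] = a⁻¹ d` with `a ∈ R_i`, `d ∈ C_X` for `b ∈ B_i`, `x ∈ I`;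
* `comm_I_conj` **(7)** : then `[u, x] = [v, a⁻¹]` for `v ∈ W_j`, `u = b⁻¹ b^v`;
* `comm_u_eq_one` : `[u, x] = 1` if `[b, x] = 1`;
* `hat_fact` : `C_{Q_i}(V) = I · U_i`.
-/

set_option autoImplicit false

namespace Cfsg.Agent.Omega.HOneQ

open Subgroup Cfsg.Agent.Omega.BTwo

variable {G : Type*} [Group G] {ι : Type*} {V : Subgroup G} {R : ι → Subgroup G}

/-- `[B_i, B_j] ≤ C_X` -/
theorem comm_cen (b : BT V R) {i j : ι} (hij : i ≠ j) {c c' : G} (hc : c ∈ centralizer (WW V (R i) : Set G))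
    (hc' : c' ∈ centralizer (WW V (R j) : Set G)) : c * c' * c⁻¹ * c'⁻¹ ∈ CenX V R := by
  have n1 := normalizer_le_normalizer_centralizer _ (b.cen_le_NW j (cen_W_le V (R i) hc))
  have n2 := normalizer_le_normalizer_centralizer _ (b.cen_le_NW i (cen_W_le V (R j) hc'))
  have h1 : c * c' * c⁻¹ * c'⁻¹ ∈ centralizer (WW V (R j) : Set G) :=
    mul_mem (conj_mem_of_normalizer n1 hc') (inv_mem hc')
  have h2 : c * c' * c⁻¹ * c'⁻¹ ∈ centralizer (WW V (R i) : Set G) := by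
    have e : c * c' * c⁻¹ * c'⁻¹ = c * (c' * c⁻¹ * c'⁻¹) := by group
    rw [e]
    exact mul_mem hc (conj_mem_of_normalizer n2 (inv_mem hc))
  exact b.mem_cen_X hij h2 h1

/-- `C_{Q_i}(V) = I · U_i` -/
theorem hat_fact [Finite G] (b : BTS V R) {i : ι} {g : G} (hg : g ∈ QQ (R i))
    (hgV : g ∈ centralizer (V : Set G)) : ∃ x ∈ CC R, ∃ u ∈ UU V R i, x * u = g := by
  obtain ⟨x, hx, w, hw, e⟩ := b.Q_fact_W hg
  refine ⟨x, hx, w, mem_inf.2 ⟨hw, ?_⟩, e⟩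
  have h1 : w = x⁻¹ * g := by rw [← e]; group
  rw [h1]
  exact mul_mem (inv_mem (b.C_le_cen hx)) hgV

variable [Finite G] (b : BTS V R)
include b

/-- `[B_i, C_{Q_j}(V)] ≤ R_i × C_X` -/
theorem comm_hat {i j : ι} (hij : i ≠ j) {c u : G} (hc : c ∈ centralizer (WW V (R i) : Set G))
    (hu : u ∈ QQ (R j)) (huV : u ∈ centralizer (V : Set G)) :
    ∃ a ∈ R i, a * (c * u * c⁻¹ * u⁻¹) ∈ CenX V R := by
  refine b.cen_W_Q hij ?_ ?_
  · have h1 := normalizer_le_normalizer_centralizer _ (b.cen_le_NW i huV)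
    have e : c * u * c⁻¹ * u⁻¹ = c * (u * c⁻¹ * u⁻¹) := by group
    rw [e]
    exact mul_mem hc (conj_mem_of_normalizer h1 (inv_mem hc))
  · exact mul_mem (conj_mem_of_normalizer (le_normalizer_O2 _ (b.cen_W_le_N i j hc)) hu) (inv_mem hu)

/-- **(7)**, first part: `[b, x] ∈ R_i × C_X` for `b ∈ B_i`, `x ∈ I` -/
theorem comm_I {i : ι} {c x : G} (hc : c ∈ centralizer (WW V (R i) : Set G)) (hx : x ∈ CC R) :
    ∃ a ∈ R i, a * (c * x * c⁻¹ * x⁻¹) ∈ CenX V R := by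
  obtain ⟨j, hj, -⟩ := b.third i i
  exact comm_hat b hj.symm hc (mem_iInf.1 hx j) (b.C_le_cen hx)

omit [Finite G] in
/-- **(7)**, second part: `[u, x] = [v, a⁻¹]`, `u = b⁻¹ b^v` -/
theorem comm_I_conj {i j : ι} {c x v a : G} (hc : c ∈ centralizer (WW V (R i) : Set G))
    (hx : x ∈ CC R) (hv : v ∈ WW V (R j)) (h : a * (c * x * c⁻¹ * x⁻¹) ∈ CenX V R) :
    (c⁻¹ * (v * c * v⁻¹)) * x * (c⁻¹ * (v * c * v⁻¹))⁻¹ * x⁻¹ = v * a⁻¹ * v⁻¹ * a := by
  have hcV := cen_W_le V (R i) hc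
  set u := c⁻¹ * (v * c * v⁻¹) with hu
  -- `u ∈ U_j`
  have huU : u ∈ UU V R j := by
    have h1 := b.cen_W_W (inv_mem hc) hv
    have e : u = c⁻¹ * v * c⁻¹⁻¹ * v⁻¹ := by rw [hu]; group
    rw [e]
    exact h1
  have hxj : x ∈ QQ (R j) := mem_iInf.1 hx j
  -- `x^v = x s`
  set s := x⁻¹ * (v * x * v⁻¹) with hs
  have hsR : s ∈ R j := by
    have h1 := b.WQ j (inv_mem hxj) hv
    have e : s = x⁻¹ * v * x⁻¹⁻¹ * v⁻¹ := by rw [hs]; group
    rw [e]
    exact h1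
  have hsV := b.R_le j hsR
  have c1 : s * c = c * s := mem_centralizer_iff.1 hcV s hsV
  have c2 : s * u = u * s := mem_centralizer_iff.1 (UU_le_cen j huU) s hsV
  -- `v [c, x] v⁻¹ = [c u, x s] = [u, x] [c, x]`
  have e1 : v * (c * x * c⁻¹ * x⁻¹) * v⁻¹ = (c * u) * (x * s) * (c * u)⁻¹ * (x * s)⁻¹ := by
    rw [hu, hs]; group
  have hux : u * x * u⁻¹ * x⁻¹ ∈ R j := by
    have h1 := b.WQ j hxj (UU_le_WW j huU)
    have e : u * x * u⁻¹ * x⁻¹ = (x * u * x⁻¹ * u⁻¹)⁻¹ := by group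
    rw [e]
    exact inv_mem h1
  have c3 := mem_centralizer_iff.1 hcV _ (b.R_le j hux)
  have e2 : (c * u) * (x * s) * (c * u)⁻¹ * (x * s)⁻¹ =
      (u * x * u⁻¹ * x⁻¹) * (c * x * c⁻¹ * x⁻¹) := by
    have c4 : (c * u) * s = s * (c * u) := by rw [mul_assoc, ← c2, ← mul_assoc, ← c1, mul_assoc]
    have c5 : s * (c * u)⁻¹ = (c * u)⁻¹ * s := by
      calc s * (c * u)⁻¹ = (c * u)⁻¹ * ((c * u) * s) * (c * u)⁻¹ := by group
        _ = (c * u)⁻¹ * (s * (c * u)) * (c * u)⁻¹ := by rw [c4]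
        _ = _ := by group
    calc (c * u) * (x * s) * (c * u)⁻¹ * (x * s)⁻¹
        = (c * u) * x * (s * (c * u)⁻¹) * s⁻¹ * x⁻¹ := by group
      _ = (c * u) * x * ((c * u)⁻¹ * s) * s⁻¹ * x⁻¹ := by rw [c5]
      _ = c * (u * x * u⁻¹ * x⁻¹) * x * c⁻¹ * x⁻¹ := by group
      _ = (u * x * u⁻¹ * x⁻¹) * c * x * c⁻¹ * x⁻¹ := by rw [← c3]
      _ = _ := by group
  -- `v` centralises `a [c, x]`
  have c6 : v * (a * (c * x * c⁻¹ * x⁻¹)) = a * (c * x * c⁻¹ * x⁻¹) * v :=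
    mem_centralizer_iff.1 h v (W_le_X V R j hv)
  rw [e2] at e1
  set k := c * x * c⁻¹ * x⁻¹ with hk
  have e3 : u * x * u⁻¹ * x⁻¹ = v * k * v⁻¹ * k⁻¹ := by rw [e1]; group
  rw [e3]
  calc v * k * v⁻¹ * k⁻¹ = v * a⁻¹ * v⁻¹ * (v * (a * k)) * v⁻¹ * k⁻¹ := by group
    _ = v * a⁻¹ * v⁻¹ * (a * k * v) * v⁻¹ * k⁻¹ := by rw [c6]
    _ = v * a⁻¹ * v⁻¹ * a := by group

/-- if `b ∈ B_i` commutes with `x ∈ I`, then so does `u = b⁻¹ b^v` -/
theorem comm_u_eq_one {i j : ι} {c x v : G} (hc : c ∈ centralizer (WW V (R i) : Set G))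
    (hx : x ∈ CC R) (hv : v ∈ WW V (R j)) (h : c * x = x * c) :
    (c⁻¹ * (v * c * v⁻¹)) * x = x * (c⁻¹ * (v * c * v⁻¹)) := by
  have h1 : (1 : G) * (c * x * c⁻¹ * x⁻¹) ∈ CenX V R := by
    have e : (1 : G) * (c * x * c⁻¹ * x⁻¹) = 1 := by rw [h]; group
    rw [e]; exact one_mem _
  have h2 := comm_I_conj b hc hx hv h1
  rw [inv_one, mul_one, mul_one, mul_inv_cancel] at h2
  rwa [mul_inv_eq_one, mul_inv_eq_iff_eq_mul] at h2

end Cfsg.Agent.Omega.HOneQ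

end

-- merged: Cfsg.Agent.Mrg.Omega.HOneQ.ResN
section

section


/-!
# II.0h1, split, `q ≥ 4`: a node `P` over `R i` moving `V`: (N0) of #15939

`Nd V R i j P`: `U_j, Q_i ≤ P ≤ C(R i)`, `U_j` transitive on `V^P - {V}`, at least three lines in `V^P - {V}`.

* `Nd.inj` : `V^a ≤ V^b Z_i` implies `V^a = V^b`;
* `Nd.inf_eq` : `V^a ∩ V^b Z_i = R_i` if `V^a ≠ V^b`.
-/

set_option autoImplicit false

namespace Cfsg.Agent.Omega.HOneQ

open Subgroup Cfsg.Agent.Omega.BTwo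

variable {G : Type*} [Group G] {ι : Type*}

/-- a group `P` over `R i` which moves `V` -/
structure Nd (V : Subgroup G) (R : ι → Subgroup G) (i j : ι) (P : Subgroup G) : Prop where
  hij : i ≠ j
  PR : P ≤ centralizer (R i : Set G)
  UP : UU V R j ≤ P
  QP : QQ (R i) ≤ P
  trans : ∀ p ∈ P, cj p V ≠ V → ∀ p' ∈ P, cj p' V ≠ V → ∃ u ∈ UU V R j, cj u (cj p V) = cj p' V
  four : ∃ a ∈ P, ∃ b ∈ P, ∃ c ∈ P, cj a V ≠ V ∧ cj b V ≠ V ∧ cj c V ≠ V ∧ cj a V ≠ cj b V ∧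
    cj a V ≠ cj c V ∧ cj b V ≠ cj c V

variable {V : Subgroup G} {R : ι → Subgroup G} {i j : ι} {P : Subgroup G}

/-- elements of `R i · C_D(X)` -/
def EE (V : Subgroup G) (R : ι → Subgroup G) (i : ι) (x : G) : Prop := ∃ a ∈ R i, a * x ∈ DD V R ⊓ CenX V R

theorem BT.EE_mem_Z (b : BT V R) {i : ι} {x : G} (h : EE V R i x) : x ∈ ZZ V R i := by
  obtain ⟨a, ha, h1, h2⟩ := h
  have e : x = a⁻¹ * (a * x) := by group
  rw [e]
  exact mul_mem (inv_mem (BT.R_le_Z b i ha)) ⟨D_le_W V R i h1, cen_X_le i h2⟩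

theorem BT.EE_mul (b : BT V R) {i : ι} {x y : G} (h : EE V R i x) (h' : EE V R i y) : EE V R i (x * y) := by
  obtain ⟨a, ha, hx⟩ := h
  obtain ⟨c, hc, hy⟩ := h'
  refine ⟨a * c, mul_mem ha hc, ?_⟩
  have h1 : c * (a * x) = a * x * c := by
    have h2 := mem_centralizer_iff.1 (BT.CenX_le_cen b hx.2) c (b.R_le i hc)
    exact h2
  have e : a * c * (x * y) = (a * x) * (c * y) := by
    have h3 := b.V_comm a (b.R_le i ha) c (b.R_le i hc)
    calc a * c * (x * y) = c * (a * x) * y := by rw [h3]; group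
      _ = (a * x) * (c * y) := by rw [h1]; group
  rw [e]
  exact mul_mem hx hy

theorem EE_of_R {i : ι} {a : G} (ha : a ∈ R i) : EE V R i a :=
  ⟨a⁻¹, inv_mem ha, by rw [inv_mul_cancel]; exact one_mem _⟩

/-- `U_j` centralises `R_i C_D(X)` -/
theorem BT.EE_comm (b : BT V R) {i j : ι} {x u : G} (h : EE V R i x) (hu : u ∈ UU V R j) : u * x = x * u := by
  obtain ⟨a, ha, -, h2⟩ := h
  have h3 := mem_centralizer_iff.1 h2 u (YY_le_XX (UU_le_YY j hu))
  have h4 := mem_centralizer_iff.1 (UU_le_cen j hu) a (b.R_le i ha)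
  -- `u (a x) = (a x) u`, `a u = u a`
  calc u * x = a⁻¹ * (a * u) * x := by group
    _ = a⁻¹ * (u * (a * x)) := by rw [h4]; group
    _ = a⁻¹ * (a * x * u) := by rw [h3]
    _ = x * u := by group

/-- `[C(W_i), U_j] ≤ R_i C_D(X)` -/
theorem BTS.EE_cen (b : BTS V R) {i j : ι} (hij : i ≠ j) {c u : G} (hc : c ∈ centralizer (WW V (R i) : Set G))
    (hu : u ∈ UU V R j) : EE V R i (c * u * c⁻¹ * u⁻¹) := by
  obtain ⟨h1, h2⟩ := b.cen_W_U hij hc hu
  exact b.cen_DW h1 h2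

namespace Nd

variable (n : Nd V R i j P)
include n

theorem P_le_N : P ≤ normalizer (R i : Set G) := n.PR.trans (by
  intro g hg
  rw [mem_normalizer_iff]
  intro x
  have key : ∀ y ∈ R i, g * y * g⁻¹ = y := fun y hy => by
    rw [← mem_centralizer_iff.1 hg y hy, mul_inv_cancel_right]
  constructor
  · intro hx; rw [key x hx]; exact hx
  · intro hx
    have h1 := mem_centralizer_iff.1 (inv_mem hg) _ hx
    have h2 : x = g⁻¹ * (g * x * g⁻¹) * g := by group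
    rw [h2]
    have h3 : g⁻¹ * (g * x * g⁻¹) * g = g * x * g⁻¹ := by
      rw [← h1]; group
    rw [h3]; exact hx)

theorem cj_R {p : G} (hp : p ∈ P) : cj p (R i) = R i := cj_eq_self_iff.2 (n.P_le_N hp)

theorem cj_Z {p : G} (hp : p ∈ P) : cj p (ZZ V R i) = ZZ V R i := cj_eq_self_iff.2 (N_le_NZ i (n.P_le_N hp))

theorem cj_W {p : G} (hp : p ∈ P) : cj p (WW V (R i)) = WW V (R i) :=
  cj_eq_self_iff.2 (normalizer_le_WW V (R i) (n.P_le_N hp))

theorem conj_R {p a : G} (hp : p ∈ P) (ha : a ∈ R i) : p * a * p⁻¹ = a := by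
  rw [← mem_centralizer_iff.1 (n.PR hp) a ha, mul_inv_cancel_right]

theorem line_le {p : G} (hp : p ∈ P) : cj p V ≤ WW V (R i) := cj_le_WW (n.P_le_N hp)

theorem R_le_line (b : BT V R) {p : G} (hp : p ∈ P) : R i ≤ cj p V := by
  rw [← n.cj_R hp]; exact cj_mono (b.R_le i)

/-- `A_c` is transitive on the lines `≠ V^c` -/
theorem trans' {a a' c : G} (ha : a ∈ P) (ha' : a' ∈ P) (hc : c ∈ P) (h : cj a V ≠ cj c V)
    (h' : cj a' V ≠ cj c V) : ∃ u ∈ UU V R j, cj (c * u * c⁻¹) (cj a V) = cj a' V := by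
  have k : ∀ x, cj x V ≠ cj c V → cj (c⁻¹ * x) V ≠ V := by
    intro x hx h1
    apply hx
    calc cj x V = cj c (cj (c⁻¹ * x) V) := by rw [← cj_mul, mul_inv_cancel_left]
      _ = cj c V := by rw [h1]
  obtain ⟨u, hu, e⟩ := n.trans _ (mul_mem (inv_mem hc) ha) (k a h) _ (mul_mem (inv_mem hc) ha') (k a' h')
  refine ⟨u, hu, ?_⟩
  have e1 : cj (c * u * c⁻¹) (cj a V) = cj c (cj u (cj (c⁻¹ * a) V)) := by
    rw [← cj_mul, ← cj_mul, ← cj_mul]
    congr 1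
    group
  rw [e1, e, ← cj_mul, mul_inv_cancel_left]

/-- `V^p ∩ Z_i = R_i` -/
theorem line_inf_Z (b : BT V R) {p x : G} (hp : p ∈ P) (hx : x ∈ cj p V) (hz : x ∈ ZZ V R i) : x ∈ R i := by
  have h1 : p⁻¹ * x * p ∈ V := mem_cj.1 hx
  have h2 : p⁻¹ * x * p ∈ ZZ V R i := by
    have h3 := (n.cj_Z (inv_mem hp)).le (conj_mem_cj hz)
    rwa [inv_inv] at h3
  have h3 := BT.cen_VW b h1 h2.2
  have h4 := n.conj_R hp h3
  have e : p * (p⁻¹ * x * p) * p⁻¹ = x := by group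
  rw [e] at h4
  rw [h4]; exact h3

theorem mul_line {p x : G} (b : BT V R) (hx : x ∈ cj p V ⊔ ZZ V R i) (hp : p ∈ P) :
    ∃ l ∈ cj p V, ∃ z ∈ ZZ V R i, x = l * z := by
  let T : Subgroup G :=
    { carrier := {x | ∃ l ∈ cj p V, ∃ z ∈ ZZ V R i, x = l * z}
      one_mem' := ⟨1, one_mem _, 1, one_mem _, by rw [one_mul]⟩
      mul_mem' := by
        rintro _ _ ⟨l, hl, z, hz, rfl⟩ ⟨l', hl', z', hz', rfl⟩
        refine ⟨l * l', mul_mem hl hl', z * z', mul_mem hz hz', ?_⟩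
        have h1 := z_comm hz (n.line_le hp hl')
        calc l * z * (l' * z') = l * (z * l') * z' := by group
          _ = l * l' * (z * z') := by rw [h1]; group
      inv_mem' := by
        rintro _ ⟨l, hl, z, hz, rfl⟩
        refine ⟨l⁻¹, inv_mem hl, z⁻¹, inv_mem hz, ?_⟩
        have h1 := z_comm (inv_mem hz) (n.line_le hp (inv_mem hl))
        rw [mul_inv_rev, h1] }
  have hT : cj p V ⊔ ZZ V R i ≤ T := by
    have _ := b
    exact sup_le (fun l hl => ⟨l, hl, 1, one_mem _, by rw [mul_one]⟩)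
      fun z hz => ⟨1, one_mem _, z, hz, by rw [one_mul]⟩
  exact hT hx

omit n in
theorem cj_VZ (n : Nd V R i j P) {p : G} (hp : p ∈ P) (q : G) : cj p (cj q V ⊔ ZZ V R i) = cj (p * q) V ⊔ ZZ V R i := by
  rw [cj_sup, n.cj_Z hp, ← cj_mul]

/-- the product of two lines is abelian if all lines are in `V Z` -/
theorem all_le (b : BT V R) {a : G} (ha : a ∈ P) (hne : cj a V ≠ V) (h : cj a V ≤ V ⊔ ZZ V R i) {p : G}
    (hp : p ∈ P) : cj p V ≤ V ⊔ ZZ V R i := by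
  by_cases h1 : cj p V = V
  · rw [h1]; exact le_sup_left
  obtain ⟨u, hu, e⟩ := n.trans a ha hne p hp h1
  rw [← e]
  have h2 : cj u (V ⊔ ZZ V R i) = V ⊔ ZZ V R i := by
    have _ := b
    rw [cj_sup, n.cj_Z (n.UP hu), cj_eq_self_iff.2 (cen_le_NV V (UU_le_cen j hu))]
  rw [← h2]
  exact cj_mono h

/-- step 3: `Φ(V^p, V^{p'}) ≤ R_i C_D(X)` for lines `≠ V`, if all lines are in `V Z_i` -/
theorem Phi_EE (b : BTS V R) (hall : ∀ p ∈ P, cj p V ≤ V ⊔ ZZ V R i) {p p' : G} (hp : p ∈ P) (hp' : p' ∈ P)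
    (h : cj p V ≠ V) (h' : cj p' V ≠ V) {l l' : G} (hl : l ∈ cj p V) (hl' : l' ∈ cj p' V)
    (hz : l * l' ∈ ZZ V R i) : EE V R i (l * l') := by
  obtain ⟨u, hu, e⟩ := n.trans p hp h p' hp' h'
  rw [← e, mem_cj] at hl'
  set l0 := u⁻¹ * l' * u with hl0
  have el : l' = u * l0 * u⁻¹ := by rw [hl0]; group
  -- `l0 = v z`
  have h1 : l0 ∈ cj 1 V ⊔ ZZ V R i := by rw [cj_one]; exact hall p hp hl'
  obtain ⟨v, hv, z, hz', e1⟩ := n.mul_line b.toBT h1 (one_mem P)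
  rw [cj_one] at hv
  have h2 : EE V R i (l0⁻¹ * l') := by
    have h3 := BTS.EE_cen b n.hij (inv_mem hz'.2) hu
    have hvu := mem_centralizer_iff.1 (UU_le_cen j hu) v hv
    have e2 : l0⁻¹ * l' = z⁻¹ * u * z⁻¹⁻¹ * u⁻¹ := by
      rw [el, e1]
      calc (v * z)⁻¹ * (u * (v * z) * u⁻¹) = z⁻¹ * v⁻¹ * (u * v) * z * u⁻¹ := by group
        _ = z⁻¹ * v⁻¹ * (v * u) * z * u⁻¹ := by rw [hvu]
        _ = z⁻¹ * u * z⁻¹⁻¹ * u⁻¹ := by group
    rw [e2]
    exact h3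
  have h3 : l * l0 ∈ R i := by
    refine n.line_inf_Z b.toBT hp (mul_mem hl hl') ?_
    have e3 : l * l0 = l * l' * (l0⁻¹ * l')⁻¹ := by group
    rw [e3]
    exact mul_mem hz (inv_mem (BT.EE_mem_Z b.toBT h2))
  have e4 : l * l' = (l * l0) * (l0⁻¹ * l') := by group
  rw [e4]
  exact BT.EE_mul b.toBT (EE_of_R h3) h2

/-- step 4: `Φ(V^p, V^{p'})` is centralised by `A_c` for lines `≠ V^c` -/
theorem Phi_comm (b : BTS V R) (hall : ∀ p ∈ P, cj p V ≤ V ⊔ ZZ V R i) {p p' c : G} (hp : p ∈ P) (hp' : p' ∈ P)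
    (hc : c ∈ P) (h : cj p V ≠ cj c V) (h' : cj p' V ≠ cj c V) {l l' u : G} (hl : l ∈ cj p V) (hl' : l' ∈ cj p' V)
    (hz : l * l' ∈ ZZ V R i) (hu : u ∈ UU V R j) :
    (c * u * c⁻¹) * (l * l') = (l * l') * (c * u * c⁻¹) := by
  have k : ∀ x, cj x V ≠ cj c V → cj (c⁻¹ * x) V ≠ V := by
    intro x hx h1
    apply hx
    calc cj x V = cj c (cj (c⁻¹ * x) V) := by rw [← cj_mul, mul_inv_cancel_left]
      _ = cj c V := by rw [h1]
  have k2 : ∀ x l, l ∈ cj x V → c⁻¹ * l * c ∈ cj (c⁻¹ * x) V := by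
    intro x l hl
    rw [mem_cj] at hl ⊢
    have e : (c⁻¹ * x)⁻¹ * (c⁻¹ * l * c) * (c⁻¹ * x) = x⁻¹ * l * x := by group
    rwa [e]
  have e1 : c⁻¹ * l * c * (c⁻¹ * l' * c) = c⁻¹ * (l * l') * c := by group
  have h1 : EE V R i (c⁻¹ * (l * l') * c) := by
    rw [← e1]
    refine n.Phi_EE b hall (mul_mem (inv_mem hc) hp) (mul_mem (inv_mem hc) hp') (k p h) (k p' h') (k2 p l hl)
      (k2 p' l' hl') ?_
    rw [e1]
    have h3 := (n.cj_Z (inv_mem hc)).le (conj_mem_cj hz)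
    rwa [inv_inv] at h3
  have h2 := BT.EE_comm b.toBT h1 hu
  calc (c * u * c⁻¹) * (l * l') = c * (u * (c⁻¹ * (l * l') * c)) * c⁻¹ := by group
    _ = c * (c⁻¹ * (l * l') * c * u) * c⁻¹ := by rw [h2]
    _ = (l * l') * (c * u * c⁻¹) := by group

/-- the lines are not all in `V Z_i` -/
theorem not_all (b : BTS V R) (hall : ∀ p ∈ P, cj p V ≤ V ⊔ ZZ V R i) : False := by
  obtain ⟨a, ha, a', ha', c, hc, h1, h2, h3, h12, h13, h23⟩ := n.four
  -- `u ∈ A_c` maps `V^{a'}` to `V`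
  obtain ⟨u0, hu0, e⟩ := n.trans' ha' (one_mem P) hc h23 (by rw [cj_one]; exact Ne.symm h3)
  rw [cj_one] at e
  set u := c * u0 * c⁻¹ with hu
  have huP : u ∈ P := mul_mem (mul_mem hc (n.UP hu0)) (inv_mem hc)
  set d := u * a with hd
  have hdP : d ∈ P := mul_mem huP ha
  have hdV : cj d V ≠ V := by
    intro h
    apply h12
    rw [hd, cj_mul] at h
    exact cj_injective (g := u) (h.trans e.symm)
  -- `U_j` centralises `V^d`
  have key : ∀ l ∈ cj d V, ∀ y ∈ UU V R j, y * l = l * y := by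
    intro l hl y hy
    have h4 : l ∈ cj 1 V ⊔ ZZ V R i := by rw [cj_one]; exact hall d hdP hl
    obtain ⟨v, hv, z, hz, rfl⟩ := n.mul_line b.toBT h4 (one_mem P)
    rw [cj_one] at hv
    -- `z = l v⁻¹`
    have hvz : v * z = z * v := (z_comm hz (V_le_WW V (R i) hv)).symm
    have ez : v * z * v⁻¹ = z := by rw [hvz, mul_inv_cancel_right]
    -- pull back by `u`
    have h5 : u⁻¹ * (v * z) * u ∈ cj a V := by
      rw [mem_cj] at hl ⊢
      have e5 : a⁻¹ * (u⁻¹ * (v * z) * u) * a = d⁻¹ * (v * z) * d := by rw [hd]; group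
      rwa [e5]
    have h6 : u⁻¹ * v⁻¹ * u ∈ cj a' V := by
      have h7 : v⁻¹ ∈ cj u (cj a' V) := by rw [e]; exact inv_mem hv
      exact mem_cj.1 h7
    have e6 : u⁻¹ * (v * z) * u * (u⁻¹ * v⁻¹ * u) = u⁻¹ * z * u := by
      calc u⁻¹ * (v * z) * u * (u⁻¹ * v⁻¹ * u) = u⁻¹ * (v * z * v⁻¹) * u := by group
        _ = u⁻¹ * z * u := by rw [ez]
    have hz' : u⁻¹ * z * u ∈ ZZ V R i := by
      have h3 := (n.cj_Z (inv_mem huP)).le (conj_mem_cj hz)
      rwa [inv_inv] at h3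
    have h7 := n.Phi_comm b hall ha ha' hc h13 h23 h5 h6 (by rw [e6]; exact hz') hu0
    rw [e6, ← hu] at h7
    have e7 : u⁻¹ * z * u = z := by
      have h8 : z * u = u⁻¹ * z * u * u := by
        calc z * u = u * (u⁻¹ * z * u) := by group
          _ = u⁻¹ * z * u * u := h7
      exact (mul_right_cancel h8).symm
    have h8 := n.Phi_EE b hall ha ha' h1 h2 h5 h6 (by rw [e6]; exact hz')
    rw [e6, e7] at h8
    have h9 := BT.EE_comm b.toBT h8 hy
    have h10 := mem_centralizer_iff.1 (UU_le_cen j hy) v hv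
    calc y * (v * z) = (y * v) * z := by group
      _ = v * (y * z) := by rw [← h10]; group
      _ = v * z * y := by rw [h9]; group
  have key2 : ∀ y ∈ UU V R j, cj y (cj d V) = cj d V := by
    intro y hy
    apply le_antisymm
    · rw [cj_le_iff]
      intro l hl
      rw [key l hl y hy, mul_inv_cancel_right]
      exact hl
    · intro l hl
      rw [mem_cj]
      have := key l hl y hy
      have e8 : y⁻¹ * l * y = l := by
        rw [mul_assoc, ← this]; group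
      rw [e8]; exact hl
  obtain ⟨y, hy, e1⟩ := n.trans d hdP hdV a ha h1
  obtain ⟨y', hy', e2⟩ := n.trans d hdP hdV a' ha' h2
  rw [key2 y hy] at e1
  rw [key2 y' hy'] at e2
  exact h12 (e1.symm.trans e2)

/-- **(N0)**: `V^a ≤ V^b Z_i` implies `V^a = V^b` -/
theorem inj (b : BTS V R) {a c : G} (ha : a ∈ P) (hc : c ∈ P) (h : cj a V ≤ cj c V ⊔ ZZ V R i) :
    cj a V = cj c V := by
  by_contra hne
  have h1 : cj (c⁻¹ * a) V ≤ V ⊔ ZZ V R i := by
    have h2 := cj_mono (g := c⁻¹) h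
    rw [← cj_mul, n.cj_VZ (inv_mem hc), inv_mul_cancel, cj_one] at h2
    exact h2
  refine n.not_all b fun p hp => n.all_le b.toBT (mul_mem (inv_mem hc) ha) ?_ h1 hp
  intro h2
  apply hne
  calc cj a V = cj c (cj (c⁻¹ * a) V) := by rw [← cj_mul, mul_inv_cancel_left]
    _ = cj c V := by rw [h2]

/-- an element of `W_i` commuting with an element of `V - R_i` centralises `V` -/
theorem cen_of_comm (b : BT V R) {w v : G} (hw : w ∈ WW V (R i)) (hv : v ∈ V) (hv' : v ∉ R i)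
    (h : w * v = v * w) : w ∈ centralizer (V : Set G) := by
  have _ := n
  obtain ⟨k, hk⟩ := b.R_cov v hv
  have hki : k ≠ i := by rintro rfl; exact hv' hk
  refine UU_le_cen i (b.mem_cen hki hw ?_)
  obtain ⟨l, hl⟩ := b.perm w (b.W_le_NV i hw) k
  have h1 : v ∈ R l := by
    rw [← hl]
    have := conj_mem_cj (g := w) hk
    rwa [h, mul_inv_cancel_right] at this
  have h2 : k = l := by
    by_contra hne
    have := b.eq_one hne hk h1
    rw [this] at hv'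
    exact hv' (one_mem _)
  rw [hl, h2]

/-- **(N0)**: `V^a ∩ V^b Z_i = R_i` if `V^a ≠ V^b` -/
theorem inf_eq (b : BTS V R) {a c : G} (ha : a ∈ P) (hc : c ∈ P) (hne : cj a V ≠ cj c V) {x : G}
    (hx : x ∈ cj a V) (hx' : x ∈ cj c V ⊔ ZZ V R i) : x ∈ R i := by
  by_contra hxR
  obtain ⟨l, hl, z, hz, e⟩ := n.mul_line b.toBT hx' hc
  have hlR : l ∉ R i := by
    intro h
    apply hxR
    refine n.line_inf_Z b.toBT ha hx ?_
    rw [e]
    exact mul_mem (BT.R_le_Z b.toBT i h) hz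
  -- `C_W(V^c)` centralises `V^a`
  have hRline : ∀ {y : G} {p : G}, p ∈ P → y ∉ R i → p⁻¹ * y * p ∉ R i := by
    intro y p hp hy h
    apply hy
    have := n.conj_R hp h
    have e1 : p * (p⁻¹ * y * p) * p⁻¹ = y := by group
    rw [e1] at this
    rw [this]; exact h
  have h1 : ∀ w ∈ WW V (R i), (∀ y ∈ cj c V, w * y = y * w) → ∀ y ∈ cj a V, w * y = y * w := by
    intro w hw h y hy
    have h2 : w * x = x * w := by
      have h3 := h l hl
      have h4 := z_comm hz hw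
      rw [e]
      calc w * (l * z) = (w * l) * z := by group
        _ = l * (w * z) := by rw [h3]; group
        _ = l * z * w := by rw [← h4]; group
    have hw' : a⁻¹ * w * a ∈ WW V (R i) := by
      have h3 := (n.cj_W (inv_mem ha)).le (conj_mem_cj hw)
      rwa [inv_inv] at h3
    have h3 := n.cen_of_comm b.toBT hw' (mem_cj.1 hx) (hRline ha hxR) (by
      calc a⁻¹ * w * a * (a⁻¹ * x * a) = a⁻¹ * (w * x) * a := by group
        _ = a⁻¹ * x * a * (a⁻¹ * w * a) := by rw [h2]; group)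
    have h4 := mem_centralizer_iff.1 h3 _ (mem_cj.1 hy)
    calc w * y = a * (a⁻¹ * w * a * (a⁻¹ * y * a)) * a⁻¹ := by group
      _ = a * (a⁻¹ * y * a * (a⁻¹ * w * a)) * a⁻¹ := by rw [← h4]
      _ = y * w := by group
  apply hne
  refine n.inj b ha hc fun y hy => ?_
  -- `y` commutes with `C_W(V^c)`
  have hy1 : c⁻¹ * y * c ∈ WW V (R i) := by
    have h3 := (n.cj_W (inv_mem hc)).le (conj_mem_cj (n.line_le ha hy))
    rwa [inv_inv] at h3
  obtain ⟨v, hv, h5⟩ := b.cen_U (b.W_le_Q i hy1) (fun u hu => by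
    have h6 : c * u * c⁻¹ ∈ WW V (R i) := (n.cj_W hc).le (conj_mem_cj (UU_le_WW i hu))
    have h7 := h1 _ h6 (fun y' hy' => by
      have h8 := mem_centralizer_iff.1 (UU_le_cen i hu) _ (mem_cj.1 hy')
      calc c * u * c⁻¹ * y' = c * (u * (c⁻¹ * y' * c)) * c⁻¹ := by group
        _ = c * (c⁻¹ * y' * c * u) * c⁻¹ := by rw [← h8]
        _ = y' * (c * u * c⁻¹) := by group) y hy
    calc c⁻¹ * y * c * u = c⁻¹ * (y * (c * u * c⁻¹)) * c := by group
      _ = c⁻¹ * (c * u * c⁻¹ * y) * c := by rw [← h7]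
      _ = u * (c⁻¹ * y * c) := by group)
  have h6 : v⁻¹ * (c⁻¹ * y * c) ∈ ZZ V R i :=
    mem_inf.2 ⟨mul_mem (inv_mem (V_le_WW V (R i) hv)) hy1, h5⟩
  have h7 : c * (v⁻¹ * (c⁻¹ * y * c)) * c⁻¹ ∈ ZZ V R i := (n.cj_Z hc).le (conj_mem_cj h6)
  have e1 : y = (c * v * c⁻¹) * (c * (v⁻¹ * (c⁻¹ * y * c)) * c⁻¹) := by group
  rw [e1]
  exact mul_mem ((le_sup_left : cj c V ≤ _) (conj_mem_cj hv)) ((le_sup_right : ZZ V R i ≤ _) h7)

end Nd

end Cfsg.Agent.Omega.HOneQ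

end

section


/-!
# II.0h1, split, `q ≥ 4`: `W_N = ⟨V^P⟩` (#15939)

* `WN`: the group generated by the lines;
* `Nd.alpha_*` : a line `≠ V` in `D`: `W_N` is normalised by `X` and `P`, elementary abelian;
* `Sc` : the torus acts on a line `V' ≤ U_i` by scalars; `Sc.WN_comm`, `Sc.WN_sq`, `Sc.cap`, `Sc.WN_fact`, `Sc.WN_Z`.
-/

set_option autoImplicit false
set_option linter.unusedSectionVars false

namespace Cfsg.Agent.Omega.HOneQ

open Subgroup Cfsg.Agent.Omega.BTwo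
open Cfsg.Agent.Omega.Lie (TorD)
open scoped Pointwise

universe u v w

variable {G : Type u} [Group G] {ι : Type w}

/-- `W_N = ⟨V^P⟩` -/
def WN (V P : Subgroup G) : Subgroup G := ⨆ p : P, cj (p : G) V

variable {V : Subgroup G} {R : ι → Subgroup G} {i j : ι} {P : Subgroup G}

theorem line_le_WN {p : G} (hp : p ∈ P) : cj p V ≤ WN V P := le_iSup (fun p : P => cj (p : G) V) ⟨p, hp⟩

theorem V_le_WN (V P : Subgroup G) : V ≤ WN V P := by
  have := line_le_WN (V := V) (one_mem P)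
  rwa [cj_one] at this

theorem WN_le {K : Subgroup G} (h : ∀ p ∈ P, cj p V ≤ K) : WN V P ≤ K := iSup_le fun p => h p p.2

theorem P_norm_WN : P ≤ normalizer (WN V P : Set G) := by
  intro g hg
  rw [← cj_eq_self_iff]
  apply le_antisymm
  · rw [WN, cj_iSup]
    refine iSup_le fun p => ?_
    rw [← cj_mul]
    exact line_le_WN (mul_mem hg p.2)
  · rw [WN]
    refine iSup_le fun p => ?_
    have := cj_mono (g := g) (line_le_WN (V := V) (mul_mem (inv_mem hg) p.2))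
    rwa [cj_mul, cj_cj_inv] at this

/-- an element normalising `V` and `P` normalises `W_N` -/
theorem norm_WN {g : G} (hg : g ∈ normalizer (P : Set G)) (hV : g ∈ normalizer (V : Set G)) :
    g ∈ normalizer (WN V P : Set G) := by
  have key : ∀ g : G, g ∈ normalizer (P : Set G) → g ∈ normalizer (V : Set G) → cj g (WN V P) ≤ WN V P := by
    intro g hg hV
    rw [WN, cj_iSup]
    refine iSup_le fun p => ?_
    have e : cj g (cj (p : G) V) = cj (g * p * g⁻¹) V := by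
      have e1 : g * (p : G) = g * p * g⁻¹ * g := by group
      calc cj g (cj (p : G) V) = cj (g * p) V := (cj_mul _ _ _).symm
        _ = cj (g * p * g⁻¹) (cj g V) := by rw [← cj_mul, ← e1]
        _ = cj (g * p * g⁻¹) V := by rw [cj_eq_self_iff.2 hV]
    rw [e]
    exact line_le_WN (conj_mem_of_normalizer hg p.2)
  rw [← cj_eq_self_iff]
  apply le_antisymm (key g hg hV)
  have := cj_mono (g := g) (key g⁻¹ (inv_mem hg) (inv_mem hV))
  rwa [cj_cj_inv] at this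

theorem cj_le_of_comm {g : G} {K L : Subgroup G} (hK : K ≤ L) (h : ∀ x ∈ K, g * x * g⁻¹ * x⁻¹ ∈ L) : cj g K ≤ L := by
  rw [cj_le_iff]
  intro x hx
  have e : g * x * g⁻¹ = g * x * g⁻¹ * x⁻¹ * x := by group
  rw [e]
  exact mul_mem (h x hx) (hK hx)

namespace Nd

variable (n : Nd V R i j P)
include n

theorem WN_le_W : WN V P ≤ WW V (R i) := WN_le fun _ hp => n.line_le hp

/-- every line is contained in `V' [V', U_j] V` -/
theorem WN_le_of {p' : G} (hp' : p' ∈ P) (hne : cj p' V ≠ V) {K : Subgroup G} (hV : V ≤ K) (hV' : cj p' V ≤ K)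
    (h : ∀ u ∈ UU V R j, ∀ x ∈ cj p' V, u * x * u⁻¹ * x⁻¹ ∈ K) : WN V P ≤ K := by
  refine WN_le fun p hp => ?_
  by_cases hpV : cj p V = V
  · rw [hpV]; exact hV
  obtain ⟨u, hu, e⟩ := n.trans p' hp' hne p hp hpV
  rw [← e]
  exact cj_le_of_comm hV' (h u hu)

/-! ### type `α`: a line in `D` -/

/-- **(α)** `W_N = V V'` -/
theorem alpha_eq (b : BTS V R) {p' : G} (hp' : p' ∈ P) (hne : cj p' V ≠ V) (hD : cj p' V ≤ DD V R) :
    WN V P = V ⊔ cj p' V := by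
  apply le_antisymm
  · refine n.WN_le_of hp' hne le_sup_left le_sup_right fun u hu x hx => (le_sup_left : V ≤ _) ?_
    exact b.XD (YY_le_XX (UU_le_YY j hu)) (hD hx)
  · exact sup_le (V_le_WN V P) (line_le_WN hp')

theorem alpha_le (b : BTS V R) {p' : G} (hp' : p' ∈ P) (hne : cj p' V ≠ V) (hD : cj p' V ≤ DD V R) :
    WN V P ≤ DD V R := by
  rw [n.alpha_eq b hp' hne hD]
  exact sup_le (V_le_D V R) hD

/-- **(α)** `X` normalises `W_N` -/
theorem alpha_X (b : BTS V R) {p' : G} (hp' : p' ∈ P) (hne : cj p' V ≠ V) (hD : cj p' V ≤ DD V R) :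
    XX V R ≤ normalizer (WN V P : Set G) := by
  refine le_normalizer_of fun x hx y hy => ?_
  have h := V_le_WN V P (b.XD hx (n.alpha_le b hp' hne hD hy))
  have e : x * y * x⁻¹ = x * y * x⁻¹ * y⁻¹ * y := by group
  rw [e]
  exact mul_mem h hy

/-- **(α)** `W_N` is elementary abelian -/
theorem alpha_comm (b : BTS V R) {p' : G} (hp' : p' ∈ P) (hne : cj p' V ≠ V) (hD : cj p' V ≤ DD V R) {x y : G}
    (hx : x ∈ WN V P) (hy : y ∈ WN V P) : x * y = y * x :=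
  b.D_comm (n.alpha_le b hp' hne hD hx) (n.alpha_le b hp' hne hD hy)

theorem alpha_sq (b : BTS V R) {p' : G} (hp' : p' ∈ P) (hne : cj p' V ≠ V) (hD : cj p' V ≤ DD V R) {x : G}
    (hx : x ∈ WN V P) : x * x = 1 := b.D_sq (n.alpha_le b hp' hne hD hx)

/-- **(α)** `V ∩ V' = R i` -/
theorem alpha_inf (b : BTS V R) {p' : G} (hp' : p' ∈ P) (hne : cj p' V ≠ V) : V ⊓ cj p' V = R i := by
  apply le_antisymm
  · rintro x ⟨h1, h2⟩
    refine n.inf_eq b hp' (one_mem P) (by rwa [cj_one]) h2 ?_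
    rw [cj_one]
    exact (le_sup_left : V ≤ _) h1
  · exact le_inf (b.R_le i) (n.R_le_line b.toBT hp')

/-- **(α)** `W_N ∩ Z_i = R i` -/
theorem alpha_Z (b : BTS V R) {p' : G} (hp' : p' ∈ P) (hne : cj p' V ≠ V) (hD : cj p' V ≤ DD V R) :
    WN V P ⊓ ZZ V R i = R i := by
  apply le_antisymm
  · rintro x ⟨h1, h2⟩
    rw [n.alpha_eq b hp' hne hD] at h1
    have hn : ((V ⊔ cj p' V : Subgroup G) : Set G) = (V : Set G) * (cj p' V : Set G) := by
      refine coe_mul_of_left_le_normalizer_right _ _ (le_normalizer_of fun x hx y hy => ?_)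
      rw [b.D_comm (V_le_D V R hx) (hD hy), mul_inv_cancel_right]
      exact hy
    have h3 : x ∈ ((V ⊔ cj p' V : Subgroup G) : Set G) := h1
    rw [hn] at h3
    obtain ⟨y, hy, l, hl, rfl⟩ := h3
    have hl' : l ∈ R i := by
      refine n.inf_eq b hp' (one_mem P) (by rwa [cj_one]) hl ?_
      rw [cj_one]
      have e : l = y⁻¹ * (y * l) := by group
      rw [e]
      exact mul_mem ((le_sup_left : V ≤ _) (inv_mem hy)) ((le_sup_right : ZZ V R i ≤ _) h2)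
    refine mul_mem ?_ hl'
    have e : y = (y * l) * l⁻¹ := by group
    have h4 : y ∈ ZZ V R i := by
      rw [e]
      exact mul_mem h2 (inv_mem (BT.R_le_Z b.toBT i hl'))
    exact BT.cen_VW b.toBT hy h4.2
  · exact le_inf ((b.R_le i).trans (V_le_WN V P)) (BT.R_le_Z b.toBT i)

end Nd

/-! ### type `σ`, `β`: the torus is a scalar on a line `V' ≤ U_i` -/

variable {F : Type v} [Field F] {vv : F → F → G} {t : F → G}

/-- the torus normalises `P` and acts on the line `V^{p'} ≤ U_i` by scalars -/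
structure Sc (V : Subgroup G) (R : ι → Subgroup G) (i j : ι) (vv : F → F → G) (t : F → G) (P : Subgroup G)
    (p' : G) : Prop extends Nd V R i j P where
  tP : ∀ a, a ≠ 0 → t a ∈ normalizer (P : Set G)
  mem : p' ∈ P
  ne : cj p' V ≠ V
  leU : cj p' V ≤ UU V R i
  sc : ∀ a b c, a ≠ 0 → t a * (p' * vv b c * p'⁻¹) * (t a)⁻¹ = p' * vv (a * b) (a * c) * p'⁻¹

/-- `Ψ = W_N ∩ D ∩ C(X)` -/
def Psi (V : Subgroup G) (R : ι → Subgroup G) (P : Subgroup G) : Subgroup G := WN V P ⊓ (DD V R ⊓ CenX V R)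

namespace Sc

variable {p' : G} (s : Sc V R i j vv t P p') (b : BTS V R) (τ : TorD V R i j vv t)
include s

theorem line_le_U {p : G} (hp : p ∈ P) (b : BTS V R) : cj p V ≤ UU V R i := by
  by_cases hpV : cj p V = V
  · rw [hpV]
    exact (V_le_D V R).trans (b.D_le_U i)
  obtain ⟨u, hu, e⟩ := s.trans p' s.mem s.ne p hp hpV
  rw [← e]
  refine cj_le_of_comm s.leU fun x hx => ?_
  exact b.D_le_U i (by
    have h1 := b.UU_comm (Ne.symm s.hij) hu (s.leU hx)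
    exact h1)

include b in
theorem WN_le_U : WN V P ≤ UU V R i := WN_le fun _ hp => s.line_le_U hp b

include b in
/-- `W_N` is abelian -/
theorem WN_comm {x y : G} (hx : x ∈ WN V P) (hy : y ∈ WN V P) : x * y = y * x := by
  have key : WN V P ≤ centralizer (WN V P : Set G) := by
    refine WN_le fun p hp => ?_
    rw [le_centralizer_iff]
    refine WN_le fun q hq => ?_
    intro y hy
    rw [mem_centralizer_iff]
    intro x hx
    -- conjugate by `p⁻¹`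
    have h1 : p⁻¹ * y * p ∈ cj (p⁻¹ * q) V := by
      rw [mem_cj] at hy ⊢
      have e : (p⁻¹ * q)⁻¹ * (p⁻¹ * y * p) * (p⁻¹ * q) = q⁻¹ * y * q := by group
      rwa [e]
    have h2 := UU_le_cen i (s.line_le_U (mul_mem (inv_mem hp) hq) b h1)
    have h3 := mem_centralizer_iff.1 h2 _ (mem_cj.1 hx)
    calc x * y = p * (p⁻¹ * x * p * (p⁻¹ * y * p)) * p⁻¹ := by group
      _ = p * (p⁻¹ * y * p * (p⁻¹ * x * p)) * p⁻¹ := by rw [h3]
      _ = y * x := by group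
  exact (mem_centralizer_iff.1 (key hx) y hy).symm

include b in
theorem WN_sq {x : G} (hx : x ∈ WN V P) : x * x = 1 := by
  let T : Subgroup G :=
    { carrier := {x | x ∈ WN V P ∧ x * x = 1}
      one_mem' := ⟨one_mem _, by rw [one_mul]⟩
      mul_mem' := by
        rintro x y ⟨hx, hx'⟩ ⟨hy, hy'⟩
        refine ⟨mul_mem hx hy, ?_⟩
        have h1 := s.WN_comm b hy hx
        calc x * y * (x * y) = x * (y * x) * y := by group
          _ = (x * x) * (y * y) := by rw [h1]; group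
          _ = 1 := by rw [hx', hy', one_mul]
      inv_mem' := by
        rintro x ⟨hx, hx'⟩
        exact ⟨inv_mem hx, by rw [← mul_inv_rev, hx', inv_one]⟩ }
  have hT : WN V P ≤ T := WN_le fun p hp x hx => by
    refine ⟨line_le_WN hp hx, ?_⟩
    have h1 := b.V_sq _ (mem_cj.1 hx)
    calc x * x = p * (p⁻¹ * x * p * (p⁻¹ * x * p)) * p⁻¹ := by group
      _ = 1 := by rw [h1]; group
  exact (hT hx).2

include b τ in
theorem t_norm_V {a : F} (ha : a ≠ 0) : t a ∈ normalizer (V : Set G) := b.X_le_NV (τ.memX a ha)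

include b τ in
theorem t_norm_WN {a : F} (ha : a ≠ 0) : t a ∈ normalizer (WN V P : Set G) :=
  norm_WN (s.tP a ha) (s.t_norm_V b τ ha)

include τ in
omit s in
theorem v_zero : vv 0 0 = 1 := by
  have := τ.v_add 0 0 0 0
  rw [add_zero] at this
  exact left_eq_mul.1 this

include τ in
theorem line_R (x : F) : p' * vv x 0 * p'⁻¹ = vv x 0 := s.conj_R s.mem ((τ.Ri _).2 ⟨x, rfl⟩)

include τ in
theorem mem_line {x : G} : x ∈ cj p' V ↔ ∃ y z, p' * vv y z * p'⁻¹ = x := by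
  rw [mem_cj, τ.v_mem]
  constructor
  · rintro ⟨y, z, e⟩
    exact ⟨y, z, by rw [e]; group⟩
  · rintro ⟨y, z, e⟩
    exact ⟨y, z, by rw [← e]; group⟩

include τ in
theorem line_add (y z y' z' : F) : p' * vv (y + y') (z + z') * p'⁻¹ =
    (p' * vv y z * p'⁻¹) * (p' * vv y' z' * p'⁻¹) := by
  have _ := s
  rw [τ.v_add]; group

include τ in
/-- an element of the line is in `R i` iff its second coordinate is `0` -/
theorem line_mem_R {y z : F} : p' * vv y z * p'⁻¹ ∈ R i ↔ z = 0 := by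
  constructor
  · intro h
    have h1 := s.conj_R (inv_mem s.mem) h
    have e : p'⁻¹ * (p' * vv y z * p'⁻¹) * p'⁻¹⁻¹ = vv y z := by group
    rw [e] at h1
    rw [← h1] at h
    obtain ⟨x, hx⟩ := (τ.Ri _).1 h
    have h2 : vv (x - y) (0 - z) = 1 := by
      have h3 := τ.v_add (x - y) (0 - z) y z
      rw [sub_add_cancel, sub_add_cancel, hx] at h3
      exact right_eq_mul.1 h3
    have h3 := (τ.v_inj _ _ h2).2
    rwa [zero_sub, neg_eq_zero] at h3
  · rintro rfl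
    rw [s.line_R τ]
    exact (τ.Ri _).2 ⟨y, rfl⟩

/-- the subgroup `D Z_i` -/
def DZ (V : Subgroup G) (R : ι → Subgroup G) (i : ι) : Subgroup G where
  carrier := {x | ∃ d ∈ DD V R, ∃ z ∈ ZZ V R i, x = d * z}
  one_mem' := ⟨1, one_mem _, 1, one_mem _, by rw [one_mul]⟩
  mul_mem' := by
    rintro _ _ ⟨d, hd, z, hz, rfl⟩ ⟨d', hd', z', hz', rfl⟩
    refine ⟨d * d', mul_mem hd hd', z * z', mul_mem hz hz', ?_⟩
    have h1 := z_comm hz (D_le_W V R i hd')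
    calc d * z * (d' * z') = d * (z * d') * z' := by group
      _ = d * d' * (z * z') := by rw [h1]; group
  inv_mem' := by
    rintro _ ⟨d, hd, z, hz, rfl⟩
    refine ⟨d⁻¹, inv_mem hd, z⁻¹, inv_mem hz, ?_⟩
    rw [mul_inv_rev, z_comm (inv_mem hz) (D_le_W V R i (inv_mem hd))]

omit s in
theorem R_le_DZ (b : BTS V R) : R i ≤ DZ V R i := fun x hx =>
  ⟨1, one_mem _, x, BT.R_le_Z b.toBT i hx, by rw [one_mul]⟩

include b τ in
omit s in
theorem t_DZ {a : F} (ha : a ≠ 0) {x : G} (hx : x ∈ DZ V R i) : t a * x * (t a)⁻¹ ∈ DZ V R i := by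
  obtain ⟨d, hd, z, hz, rfl⟩ := hx
  refine ⟨_, conj_mem_of_normalizer (b.NV_le_ND (b.X_le_NV (τ.memX a ha))) hd, _,
    conj_mem_of_normalizer (N_le_NZ i (τ.normR ha)) hz, ?_⟩
  group

include b τ in
/-- `V' ∩ D Z_i = R i` -/
theorem cap (hF : ∃ a : F, a ≠ 0 ∧ a ≠ 1) {x : G} (hx : x ∈ cj p' V) (hDZ : x ∈ DZ V R i) : x ∈ R i := by
  obtain ⟨y, z, rfl⟩ := (s.mem_line τ).1 hx
  rw [s.line_mem_R τ]
  by_contra hz
  -- the whole line is in `D Z`
  have h1 : ∀ y' z', p' * vv y' z' * p'⁻¹ ∈ DZ V R i := by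
    intro y' z'
    by_cases hz' : z' = 0
    · subst hz'
      rw [s.line_R τ]
      exact R_le_DZ b ((τ.Ri _).2 ⟨_, rfl⟩)
    · have ha : z' * z⁻¹ ≠ 0 := mul_ne_zero hz' (inv_ne_zero hz)
      have h2 := t_DZ b τ ha hDZ
      rw [s.sc _ _ _ ha, inv_mul_cancel_right₀ hz] at h2
      have h3 := s.line_add τ (y' - z' * z⁻¹ * y) 0 (z' * z⁻¹ * y) z'
      rw [sub_add_cancel, zero_add] at h3
      rw [h3]
      refine mul_mem ?_ h2
      rw [s.line_R τ]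
      exact R_le_DZ b ((τ.Ri _).2 ⟨_, rfl⟩)
  obtain ⟨a, ha, ha1⟩ := hF
  have ha1' : a - 1 ≠ 0 := sub_ne_zero.2 ha1
  -- the line is in `V Z`
  apply s.ne
  have h4 : cj p' V ≤ cj 1 V ⊔ ZZ V R i := by
    intro x hx
    obtain ⟨y', z', rfl⟩ := (s.mem_line τ).1 hx
    obtain ⟨d, hd, z0, hz0, e⟩ := h1 ((a - 1)⁻¹ * y') ((a - 1)⁻¹ * z')
    have h5 := s.sc a ((a - 1)⁻¹ * y') ((a - 1)⁻¹ * z') ha
    have h6 := s.line_add τ y' z' ((a - 1)⁻¹ * y') ((a - 1)⁻¹ * z')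
    have e1 : ∀ y' : F, y' + (a - 1)⁻¹ * y' = a * ((a - 1)⁻¹ * y') := by
      intro y'
      have e2 : y' = (a - 1) * ((a - 1)⁻¹ * y') := by rw [mul_inv_cancel_left₀ ha1']
      nth_rw 1 [e2]
      ring
    rw [e1, e1, ← h5, e] at h6
    -- `h6 : t (d z0) t⁻¹ = x (d z0)`
    have h7 : p' * vv y' z' * p'⁻¹ = (t a * (d * z0) * (t a)⁻¹) * (d * z0)⁻¹ := by rw [h6]; group
    have h8 := b.XD (τ.memX a ha) hd
    have h9 : t a * z0 * (t a)⁻¹ * z0⁻¹ ∈ ZZ V R i :=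
      mul_mem (conj_mem_of_normalizer (N_le_NZ i (τ.normR ha)) hz0) (inv_mem hz0)
    have h10 := z_comm h9 (D_le_W V R i (inv_mem hd))
    have e3 : (t a * (d * z0) * (t a)⁻¹) * (d * z0)⁻¹ =
        (t a * d * (t a)⁻¹ * d⁻¹) * (t a * z0 * (t a)⁻¹ * z0⁻¹) := by
      calc (t a * (d * z0) * (t a)⁻¹) * (d * z0)⁻¹
          = t a * d * (t a)⁻¹ * ((t a * z0 * (t a)⁻¹ * z0⁻¹) * d⁻¹) := by group
        _ = _ := by rw [h10]; group
    rw [h7, e3, cj_one]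
    exact mul_mem ((le_sup_left : V ≤ _) h8) ((le_sup_right : ZZ V R i ≤ _) h9)
  have h5 := s.inj b s.mem (one_mem P) h4
  rwa [cj_one] at h5

include b in
/-- `W_N = V' (W_N ∩ D)` -/
theorem WN_fact {x : G} (hx : x ∈ WN V P) : ∃ l ∈ cj p' V, ∃ d ∈ DD V R, d ∈ WN V P ∧ x = l * d := by
  let T : Subgroup G :=
    { carrier := {x | ∃ l ∈ cj p' V, ∃ d ∈ DD V R, d ∈ WN V P ∧ x = l * d}
      one_mem' := ⟨1, one_mem _, 1, one_mem _, one_mem _, by rw [one_mul]⟩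
      mul_mem' := by
        rintro _ _ ⟨l, hl, d, hd, hd', rfl⟩ ⟨l', hl', e, he, he', rfl⟩
        refine ⟨l * l', mul_mem hl hl', d * e, mul_mem hd he, mul_mem hd' he', ?_⟩
        have h1 := s.WN_comm b hd' (line_le_WN s.mem hl')
        calc l * d * (l' * e) = l * (d * l') * e := by group
          _ = l * l' * (d * e) := by rw [h1]; group
      inv_mem' := by
        rintro _ ⟨l, hl, d, hd, hd', rfl⟩
        refine ⟨l⁻¹, inv_mem hl, d⁻¹, inv_mem hd, inv_mem hd', ?_⟩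
        rw [mul_inv_rev, s.WN_comm b (inv_mem hd') (line_le_WN s.mem (inv_mem hl))] }
  have hT : WN V P ≤ T := by
    refine s.toNd.WN_le_of s.mem s.ne ?_ ?_ ?_
    · exact fun x hx => ⟨1, one_mem _, x, V_le_D V R hx, V_le_WN V P hx, by rw [one_mul]⟩
    · exact fun x hx => ⟨x, hx, 1, one_mem _, one_mem _, by rw [mul_one]⟩
    · intro u hu x hx
      refine ⟨1, one_mem _, _, b.UU_comm (Ne.symm s.hij) hu (s.leU hx), ?_, (one_mul _).symm⟩
      exact mul_mem (conj_mem_of_normalizer (P_norm_WN (s.UP hu)) (line_le_WN s.mem hx))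
        (inv_mem (line_le_WN s.mem hx))
  exact hT hx

include b τ in
/-- `W_N ∩ D Z_i ≤ D` -/
theorem WN_DZ (hF : ∃ a : F, a ≠ 0 ∧ a ≠ 1) {x : G} (hx : x ∈ WN V P) (hz : x ∈ DZ V R i) : x ∈ DD V R := by
  obtain ⟨l, hl, d, hd, hd', rfl⟩ := s.WN_fact b hx
  have h1 : l ∈ R i := by
    refine s.cap b τ hF hl ?_
    have e : l = (l * d) * d⁻¹ := by group
    rw [e]
    exact mul_mem hz ⟨d⁻¹, inv_mem hd, 1, one_mem _, by rw [mul_one]⟩
  exact mul_mem (V_le_D V R (b.R_le i h1)) hd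

include b τ in
/-- `W_N ∩ Z_i = R i × Ψ` -/
theorem WN_Z (hF : ∃ a : F, a ≠ 0 ∧ a ≠ 1) {x : G} (hx : x ∈ WN V P) (hz : x ∈ ZZ V R i) :
    ∃ a ∈ R i, a * x ∈ Psi V R P := by
  have h1 := s.WN_DZ b τ hF hx ⟨1, one_mem _, x, hz, by rw [one_mul]⟩
  obtain ⟨a, ha, h2⟩ := b.Z_inf_D hz h1
  exact ⟨a, ha, mem_inf.2 ⟨mul_mem (V_le_WN V P (b.R_le i ha)) hx, h2⟩⟩

end Sc

end Cfsg.Agent.Omega.HOneQ

end

end
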